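import Mathlib

set_option autoImplicit false

/-!
# The Sylow 2-subgroups of `A₅`
-/

namespace Cfsg.Agent.KnownA

open Equiv

/-- `(0 1)(2 3)` -/
def fiveA : alternatingGroup (Fin 5) :=
  ⟨Equiv.swap 0 1 * Equiv.swap 2 3, Equiv.Perm.mem_alternatingGroup.mpr (by decide)⟩

/-- `(0 2)(1 3)` -/
def fiveB : alternatingGroup (Fin 5) :=
  ⟨Equiv.swap 0 2 * Equiv.swap 1 3, Equiv.Perm.mem_alternatingGroup.mpr (by decide)⟩

/-- The Klein four group fixing the last point, as a list. -/
def fiveList : List (alternatingGroup (Fin 5)) := [1, fiveA, fiveB, fiveA * fiveB]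

theorem five_escape : ∀ h : alternatingGroup (Fin 5), h ∈ fiveList ∨
    ∃ w ∈ fiveList, ∃ w' ∈ fiveList, ∃ z ∈ [h, h * w * h, h * w * h * w' * h],
      z ∉ fiveList ∧ z * fiveA * z⁻¹ ∈ fiveList ∧ z * fiveB * z⁻¹ ∈ fiveList := by
  decide +kernel

theorem five_centralizer : ∀ h : alternatingGroup (Fin 5),
    h * fiveA = fiveA * h → h * fiveB = fiveB * h → h ∈ fiveList := by
  decide +kernel

theorem five_normalizer_card :
    ((Finset.univ : Finset (alternatingGroup (Fin 5))).filter
      (fun z => z * fiveA * z⁻¹ ∈ fiveList ∧ z * fiveB * z⁻¹ ∈ fiveList)).card = 12 := by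
  decide +kernel

/-- The same group as a subgroup. -/
def fiveV : Subgroup (alternatingGroup (Fin 5)) where
  carrier := {g | g ∈ fiveList}
  mul_mem' {a b} ha hb := by
    revert a b
    show ∀ {a b : alternatingGroup (Fin 5)}, a ∈ fiveList → b ∈ fiveList → a * b ∈ fiveList
    decide +kernel
  one_mem' := by show (1 : alternatingGroup (Fin 5)) ∈ fiveList; simp [fiveList]
  inv_mem' {a} ha := by
    revert a
    show ∀ {a : alternatingGroup (Fin 5)}, a ∈ fiveList → a⁻¹ ∈ fiveList
    decide +kernel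

theorem mem_fiveV (g : alternatingGroup (Fin 5)) : g ∈ fiveV ↔ g ∈ fiveList := Iff.rfl

theorem card_fiveV : Nat.card fiveV = 4 := by
  have h1 : (fiveV : Set (alternatingGroup (Fin 5))) = ↑(fiveList.toFinset) := by
    ext g; simp [mem_fiveV]
  rw [← SetLike.coe_sort_coe, h1, Nat.card_coe_set_eq, Set.ncard_coe_finset]
  decide +kernel

theorem card_alt_five : Nat.card (alternatingGroup (Fin 5)) = 60 := by
  rw [Nat.card_eq_fintype_card]; decide +kernel

/-- `fiveV` as a Sylow subgroup. -/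
theorem exists_fiveV_sylow : ∃ Q : Sylow 2 (alternatingGroup (Fin 5)),
    (Q : Subgroup (alternatingGroup (Fin 5))) = fiveV := by
  haveI := Fact.mk Nat.prime_two
  have hp : IsPGroup 2 fiveV := IsPGroup.of_card (n := 2) (by rw [card_fiveV]; rfl)
  obtain ⟨Q, hQ⟩ := hp.exists_le_sylow
  refine ⟨Q, (Subgroup.eq_of_le_of_card_ge hQ ?_).symm⟩
  rw [card_fiveV, Sylow.card_eq_multiplicity, card_alt_five]
  have : (60 : ℕ).factorization 2 ≤ 2 := by
    by_contra hc
    push Not at hc
    exact absurd ((Nat.prime_two.pow_dvd_iff_le_factorization (by norm_num)).mpr hc) (by decide)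
  calc 2 ^ (60 : ℕ).factorization 2 ≤ 2 ^ 2 := Nat.pow_le_pow_right (by norm_num) this
    _ = 4 := rfl

theorem mem_normalizer_fiveV (z : alternatingGroup (Fin 5)) :
    z ∈ Subgroup.normalizer (fiveV : Set (alternatingGroup (Fin 5))) ↔
      z * fiveA * z⁻¹ ∈ fiveList ∧ z * fiveB * z⁻¹ ∈ fiveList := by
  constructor
  · intro h
    exact ⟨(Subgroup.mem_normalizer_iff.mp h fiveA).mp (by rw [mem_fiveV]; simp [fiveList]),
      (Subgroup.mem_normalizer_iff.mp h fiveB).mp (by rw [mem_fiveV]; simp [fiveList])⟩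
  · rintro ⟨ha, hb⟩
    have hle : fiveV.map (MulAut.conj z).toMonoidHom ≤ fiveV := by
      rintro _ ⟨v, hv, rfl⟩
      have hv' : v = 1 ∨ v = fiveA ∨ v = fiveB ∨ v = fiveA * fiveB := by simpa [mem_fiveV, fiveList] using hv
      rcases hv' with rfl | rfl | rfl | rfl
      · simp [one_mem]
      · exact ha
      · exact hb
      · rw [map_mul]; exact fiveV.mul_mem ha hb
    have heq := Subgroup.eq_of_le_of_card_ge hle (by rw [Subgroup.card_map_of_injective (MulAut.conj z).injective])
    rw [Subgroup.mem_normalizer_iff]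
    intro v
    conv_rhs => rw [← heq]
    exact (Subgroup.mem_map_iff_mem (f := (MulAut.conj z).toMonoidHom) (MulAut.conj z).injective).symm

theorem card_normalizer_five (P : Sylow 2 (alternatingGroup (Fin 5))) :
    Nat.card (Subgroup.normalizer ((P : Subgroup (alternatingGroup (Fin 5))) : Set (alternatingGroup (Fin 5)))) = 12 := by
  haveI := Fact.mk Nat.prime_two
  obtain ⟨Q, hQ⟩ := exists_fiveV_sylow
  have h1 : Nat.card (Sylow 2 (alternatingGroup (Fin 5))) =
      (Subgroup.normalizer ((P : Subgroup (alternatingGroup (Fin 5))) : Set (alternatingGroup (Fin 5)))).index :=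
    Sylow.card_eq_index_normalizer P
  have h2 : Nat.card (Sylow 2 (alternatingGroup (Fin 5))) =
      (Subgroup.normalizer ((Q : Subgroup (alternatingGroup (Fin 5))) : Set (alternatingGroup (Fin 5)))).index :=
    Sylow.card_eq_index_normalizer Q
  have h3 : Nat.card (Subgroup.normalizer ((Q : Subgroup (alternatingGroup (Fin 5))) : Set (alternatingGroup (Fin 5)))) = 12 := by
    rw [hQ, ← five_normalizer_card, ← Nat.card_eq_finsetCard]
    exact Nat.card_congr (Equiv.subtypeEquivRight fun z => by simp [mem_normalizer_fiveV])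
  have e1 := (Subgroup.normalizer ((P : Subgroup (alternatingGroup (Fin 5))) : Set (alternatingGroup (Fin 5)))).index_mul_card
  have e2 := (Subgroup.normalizer ((Q : Subgroup (alternatingGroup (Fin 5))) : Set (alternatingGroup (Fin 5)))).index_mul_card
  rw [← h1] at e1
  rw [← h2, h3] at e2
  rw [card_alt_five] at e1 e2
  have hpos : 0 < Nat.card (Sylow 2 (alternatingGroup (Fin 5))) := Nat.card_pos
  nlinarith

/-- Every Sylow 2-subgroup of `A₅` is conjugate to `fiveV`. -/
theorem exists_conj_fiveV (P : Sylow 2 (alternatingGroup (Fin 5))) :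
    ∃ g : alternatingGroup (Fin 5), ∀ x, x ∈ (P : Subgroup (alternatingGroup (Fin 5))) ↔ g * x * g⁻¹ ∈ fiveV := by
  haveI := Fact.mk Nat.prime_two
  obtain ⟨Q, hQ⟩ := exists_fiveV_sylow
  obtain ⟨g, hg⟩ := MulAction.exists_smul_eq (alternatingGroup (Fin 5)) P Q
  refine ⟨g, fun x => ?_⟩
  rw [← hQ, ← hg]
  exact (Subgroup.mem_map_iff_mem (f := (MulAut.conj g).toMonoidHom) (MulAut.conj g).injective).symm

theorem centralizer_sylow_five (P : Sylow 2 (alternatingGroup (Fin 5))) :
    Nat.card (P : Subgroup (alternatingGroup (Fin 5))) = 4 ∧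
    Subgroup.centralizer ((P : Subgroup (alternatingGroup (Fin 5))) : Set (alternatingGroup (Fin 5))) ≤
      (P : Subgroup (alternatingGroup (Fin 5))) := by
  obtain ⟨g, hg⟩ := exists_conj_fiveV P
  refine ⟨?_, fun x hx => ?_⟩
  · rw [← card_fiveV]
    exact Nat.card_congr ((MulAut.conj g).toEquiv.subtypeEquiv hg)
  · rw [hg, mem_fiveV]
    rw [Subgroup.mem_centralizer_iff] at hx
    have key : ∀ v ∈ fiveV, (g * x * g⁻¹) * v = v * (g * x * g⁻¹) := by
      intro v hv
      have hmem : g⁻¹ * v * g ∈ (P : Subgroup (alternatingGroup (Fin 5))) := by rw [hg]; simpa [mul_assoc] using hv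
      have := hx _ hmem
      calc g * x * g⁻¹ * v = g * (x * (g⁻¹ * v * g)) * g⁻¹ := by group
        _ = g * ((g⁻¹ * v * g) * x) * g⁻¹ := by rw [this]
        _ = v * (g * x * g⁻¹) := by group
    exact five_centralizer _ (key _ (by rw [mem_fiveV]; simp [fiveList])) (key _ (by rw [mem_fiveV]; simp [fiveList]))

theorem normalizer_le_of_sylow_lt_five (P : Sylow 2 (alternatingGroup (Fin 5)))
    (H : Subgroup (alternatingGroup (Fin 5))) (hle : (P : Subgroup (alternatingGroup (Fin 5))) ≤ H)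
    (hne : (P : Subgroup (alternatingGroup (Fin 5))) ≠ H) :
    Subgroup.normalizer ((P : Subgroup (alternatingGroup (Fin 5))) : Set (alternatingGroup (Fin 5))) ≤ H := by
  set N := Subgroup.normalizer ((P : Subgroup (alternatingGroup (Fin 5))) : Set (alternatingGroup (Fin 5)))
  obtain ⟨g, hg⟩ := exists_conj_fiveV P
  obtain ⟨h, hhH, hhP⟩ : ∃ h ∈ H, h ∉ (P : Subgroup (alternatingGroup (Fin 5))) := by
    by_contra hc; push Not at hc; exact hne (le_antisymm hle hc)
  set t := g * h * g⁻¹ with ht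
  have htV : t ∉ fiveList := fun h' => hhP ((hg h).mpr h')
  rcases five_escape t with h' | ⟨w, hw, w', hw', z, hz, hzV, hza, hzb⟩
  · exact absurd h' htV
  have back : ∀ v ∈ fiveList, g⁻¹ * v * g ∈ H := fun v hv => hle ((hg _).mpr (by simpa [mem_fiveV, mul_assoc] using hv))
  set z' := g⁻¹ * z * g with hz'
  have hz'H : z' ∈ H := by
    have e1 : g⁻¹ * t * g = h := by rw [ht]; group
    simp only [List.mem_cons, List.not_mem_nil, or_false] at hz
    rcases hz with rfl | rfl | rfl
    · rw [hz', e1]; exact hhH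
    · rw [hz', show g⁻¹ * (t * w * t) * g = (g⁻¹ * t * g) * (g⁻¹ * w * g) * (g⁻¹ * t * g) by group, e1]
      exact mul_mem (mul_mem hhH (back w hw)) hhH
    · rw [hz', show g⁻¹ * (t * w * t * w' * t) * g =
        (g⁻¹ * t * g) * (g⁻¹ * w * g) * (g⁻¹ * t * g) * (g⁻¹ * w' * g) * (g⁻¹ * t * g) by group, e1]
      exact mul_mem (mul_mem (mul_mem (mul_mem hhH (back w hw)) hhH) (back w' hw')) hhH
  have hz'N : z' ∈ N := by
    rw [Subgroup.mem_normalizer_iff]
    intro x
    rw [hg, hg, show g * (z' * x * z'⁻¹) * g⁻¹ = z * (g * x * g⁻¹) * z⁻¹ by rw [hz']; group]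
    exact Subgroup.mem_normalizer_iff.mp ((mem_normalizer_fiveV z).mpr ⟨hza, hzb⟩) _
  have hz'P : z' ∉ (P : Subgroup (alternatingGroup (Fin 5))) := by
    rw [hg, mem_fiveV, hz']; simpa [mul_assoc] using hzV
  have hcN : Nat.card N = 12 := card_normalizer_five P
  have hlow : (P : Subgroup (alternatingGroup (Fin 5))) ≤ H ⊓ N := le_inf hle Subgroup.le_normalizer
  have h4 : 4 ∣ Nat.card ↥(H ⊓ N) := (centralizer_sylow_five P).1 ▸ Subgroup.card_dvd_of_le hlow
  have h12 : Nat.card ↥(H ⊓ N) ∣ 12 := hcN ▸ Subgroup.card_dvd_of_le inf_le_right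
  have hgt : 4 < Nat.card ↥(H ⊓ N) := by
    by_contra hc
    push Not at hc
    have := Subgroup.eq_of_le_of_card_ge hlow (by rw [(centralizer_sylow_five P).1]; exact hc)
    exact hz'P (this.ge ⟨hz'H, hz'N⟩)
  have heq : Nat.card ↥(H ⊓ N) = 12 := by
    obtain ⟨k, hk⟩ := h4
    have := Nat.le_of_dvd (by norm_num) h12
    have : k ≤ 3 := by omega
    rw [hk] at h12 hgt ⊢
    interval_cases k <;> norm_num at *
  exact (Subgroup.eq_of_le_of_card_ge (H := H ⊓ N) inf_le_right (by rw [heq, hcN])).ge.trans inf_le_left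

end Cfsg.Agent.KnownA
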