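import Mathlib

set_option autoImplicit false

namespace Cfsg.Agent.KnownA

/-- If some element of an abelian Sylow `p`-subgroup (`p` odd) other than `1` is conjugate to its
inverse then the automizer has even order. -/
theorem two_dvd_automizer_of_real {G : Type*} [Group G] [Finite G] {p : ℕ} [Fact p.Prime]
    (hp : p ≠ 2) (P : Sylow p G) [IsMulCommutative (P : Subgroup G)] (x : G)
    (hx : x ∈ (P : Subgroup G)) (hx1 : x ≠ 1) (hreal : IsConj x x⁻¹) :
    2 ∣ ((Subgroup.centralizer ((P : Subgroup G) : Set G)).subgroupOf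
      (Subgroup.normalizer ((P : Subgroup G) : Set G))).index := by
  haveI : IsMulCommutative P := ‹_›
  obtain ⟨c, hc⟩ := isConj_iff.mp hreal
  obtain ⟨n, hn, he⟩ := P.conj_eq_normalizer_conj_of_mem x c⁻¹ hx
    (by rw [inv_inv, hc]; exact inv_mem hx)
  rw [inv_inv, hc] at he
  set N := Subgroup.normalizer ((P : Subgroup G) : Set G)
  set C := (Subgroup.centralizer ((P : Subgroup G) : Set G)).subgroupOf N
  haveI hCn : C.Normal := by
    refine ⟨fun a ha g => ?_⟩
    rw [Subgroup.mem_subgroupOf, Subgroup.mem_centralizer_iff] at ha ⊢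
    intro h hh
    have hh' : (g : G)⁻¹ * h * g ∈ (P : Subgroup G) := (Subgroup.mem_normalizer_iff''.mp g.2 h).mp hh
    have h1 := ha _ hh'
    simp only [Subgroup.coe_mul, Subgroup.coe_inv]
    calc h * ((g : G) * a * (g : G)⁻¹) = g * (((g : G)⁻¹ * h * g) * a) * (g : G)⁻¹ := by group
      _ = g * (a * ((g : G)⁻¹ * h * g)) * (g : G)⁻¹ := by rw [h1]
      _ = (g : G) * a * (g : G)⁻¹ * h := by group
  by_contra hodd
  have key : ∀ k : ℕ, (n ^ k)⁻¹ * x * n ^ k = if Even k then x else x⁻¹ := by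
    intro k
    induction k with
    | zero => simp
    | succ k ih =>
      have hn' : n⁻¹ * x⁻¹ * n = x := by
        have := congrArg (·⁻¹) he.symm
        simpa [mul_assoc] using this
      calc (n ^ (k + 1))⁻¹ * x * n ^ (k + 1) = n⁻¹ * ((n ^ k)⁻¹ * x * n ^ k) * n := by
            rw [pow_succ]; group
        _ = _ := by
            rw [ih]
            rcases Nat.even_or_odd k with hk | hk
            · rw [if_pos hk, if_neg (by simp [Nat.even_add_one, hk]), ← he]
            · rw [if_neg (Nat.not_even_iff_odd.mpr hk), if_pos (Nat.even_add_one.mpr (Nat.not_even_iff_odd.mpr hk))]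
              exact hn'
  have hmem := C.pow_index_mem (⟨n, hn⟩ : N)
  rw [Subgroup.mem_subgroupOf, Subgroup.mem_centralizer_iff] at hmem
  have h1 := hmem x hx
  simp only [SubmonoidClass.coe_pow] at h1
  have h2 := key C.index
  rw [if_neg (fun h => hodd (even_iff_two_dvd.mp h)), mul_assoc, h1, inv_mul_cancel_left] at h2
  have hsq : x ^ 2 = 1 := by rw [pow_two]; exact mul_eq_one_iff_eq_inv.mpr h2
  have h2p : orderOf x ∣ 2 := orderOf_dvd_of_pow_eq_one hsq
  obtain ⟨j, hj⟩ := (IsPGroup.iff_orderOf.mp P.2) ⟨x, hx⟩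
  rw [Subgroup.orderOf_mk] at hj
  rw [hj] at h2p
  rcases Nat.eq_zero_or_pos j with rfl | hj0
  · exact hx1 (orderOf_eq_one_iff.mp (by simpa using hj))
  · exact hp ((Nat.prime_dvd_prime_iff_eq (Fact.out) Nat.prime_two).mp
      (dvd_trans (dvd_pow_self p hj0.ne') h2p))

/-- A conjugate of any `p`-element lies in a given Sylow subgroup. -/
theorem exists_conj_mem_sylow {G : Type*} [Group G] [Finite G] {p : ℕ} [Fact p.Prime]
    (P : Sylow p G) (x : G) (hx : ∃ k, orderOf x = p ^ k) : ∃ g : G, g * x * g⁻¹ ∈ (P : Subgroup G) := by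
  obtain ⟨k, hk⟩ := hx
  have hp : IsPGroup p (Subgroup.zpowers x) := IsPGroup.of_card (n := k) (by rw [Nat.card_zpowers, hk])
  obtain ⟨Q, hQ⟩ := hp.exists_le_sylow
  obtain ⟨g, hg⟩ := MulAction.exists_smul_eq G Q P
  refine ⟨g, ?_⟩
  rw [← hg]
  exact ⟨x, hQ (Subgroup.mem_zpowers x), rfl⟩

end Cfsg.Agent.KnownA
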