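import Cfsg.Agent.KnownA.PairModel

set_option autoImplicit false

/-!
# Sylow 2-subgroups of symmetric and alternating groups are self-normalizing
-/

namespace Cfsg.Agent.KnownA

open Equiv

theorem flip_pair_of_swap_commute {m e : ℕ} (he : e ≤ 1) {p q : PairPts m e} (hpq : p ≠ q)
    (h : Equiv.swap p q ∈ pairCent m e) : pairFlip m e p = q := by
  by_contra hne
  have h1 := mem_pairCent.mp h p
  rw [Equiv.swap_apply_left] at h1
  rcases eq_or_ne (pairFlip m e p) p with hp | hp
  · rw [hp, Equiv.swap_apply_left] at h1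
    rcases p with ⟨i, b⟩ | k
    · simp at hp
    · rcases q with ⟨i, b⟩ | k'
      · simp at h1
      · have : k = k' := Fin.ext (by omega)
        exact hpq (by rw [this])
  · rw [Equiv.swap_apply_of_ne_of_ne hp hne] at h1
    exact hpq ((pairFlip m e).injective h1)

theorem conj_swap {α : Type*} [DecidableEq α] (x : Perm α) (a b : α) :
    x * Equiv.swap a b * x⁻¹ = Equiv.swap (x a) (x b) := by
  rw [Equiv.mul_swap_eq_swap_mul, mul_inv_cancel_right]

/-- An element preserving every pair lies in the centraliser. -/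
theorem mem_pairCent_of_pairs {m e : ℕ} (he : e ≤ 1) (x : Perm (PairPts m e))
    (h : ∀ i, pairFlip m e (x (.inl (i, false))) = x (.inl (i, true))) : x ∈ pairCent m e := by
  have hinl : ∀ w : Fin m × Bool, x (pairFlip m e (.inl w)) = pairFlip m e (x (.inl w)) := by
    rintro ⟨i, b⟩
    cases b
    · rw [h i]; rfl
    · rw [pairFlip_inl, ← h i, pairFlip_flip]; rfl
  rw [mem_pairCent]
  rintro (w | k)
  · exact hinl w
  · haveI : Subsingleton (Fin e) := by interval_cases e <;> infer_instance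
    rw [pairFlip_inr]
    by_contra hne
    obtain ⟨w, hw⟩ := x.surjective (pairFlip m e (x (.inr k)))
    rcases w with w | k'
    · have h2 := hinl w
      rw [hw, pairFlip_flip] at h2
      rcases w with ⟨i, b⟩
      simpa using x.injective h2
    · exact hne (by rw [← hw, Subsingleton.elim k k'])

theorem pairs_preserved_of_swaps {m e : ℕ} (he : e ≤ 1) (x : Perm (PairPts m e))
    (h : ∀ i, x * pairSwap m e i * x⁻¹ ∈ pairCent m e) : x ∈ pairCent m e := by
  refine mem_pairCent_of_pairs he x fun i => ?_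
  have h1 := h i
  rw [pairSwap, conj_swap] at h1
  exact flip_pair_of_swap_commute he (fun e' => by simpa using x.injective e') h1

theorem pairs_preserved_of_doubleSwaps {m e : ℕ} (he : e ≤ 1) (hm : 3 ≤ m) (x : Perm (PairPts m e))
    (h : ∀ i j, i ≠ j → x * (pairSwap m e i * pairSwap m e j) * x⁻¹ ∈ pairCent m e) :
    x ∈ pairCent m e := by
  classical
  refine mem_pairCent_of_pairs he x fun i => ?_
  obtain ⟨j, hj, k, hk, hjk⟩ : ∃ j, j ≠ i ∧ ∃ k, k ≠ i ∧ j ≠ k := by
    have : 1 < ((Finset.univ : Finset (Fin m)).erase i).card := by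
      rw [Finset.card_erase_of_mem (Finset.mem_univ _), Finset.card_univ, Fintype.card_fin]; omega
    obtain ⟨j, hj, k, hk, hjk⟩ := Finset.one_lt_card.mp this
    exact ⟨j, (Finset.mem_erase.mp hj).1, k, (Finset.mem_erase.mp hk).1, hjk⟩
  by_contra hne
  set p := x (.inl (i, false))
  set q := x (.inl (i, true))
  set r := pairFlip m e p
  have key : ∀ l, l ≠ i → r = x (.inl (l, false)) ∨ r = x (.inl (l, true)) := by
    intro l hl
    have hmem := h i l (Ne.symm hl)
    have hdist : x * (pairSwap m e i * pairSwap m e l) * x⁻¹ =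
        Equiv.swap p q * Equiv.swap (x (.inl (l, false))) (x (.inl (l, true))) := by
      rw [← conj_swap, ← conj_swap]; simp only [pairSwap]; group
    rw [hdist] at hmem
    have hpl : ∀ b, p ≠ x (.inl (l, b)) := fun b e' => hl (by simpa using congrArg (Sum.elim Prod.fst (fun _ => i)) (x.injective e').symm)
    have hql : ∀ b, q ≠ x (.inl (l, b)) := fun b e' => hl (by simpa using congrArg (Sum.elim Prod.fst (fun _ => i)) (x.injective e').symm)
    have hp := mem_pairCent.mp hmem p
    simp only [Perm.mul_apply, Equiv.swap_apply_of_ne_of_ne (hpl false) (hpl true), Equiv.swap_apply_left] at hp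
    by_contra hc
    push Not at hc
    rw [Equiv.swap_apply_of_ne_of_ne hc.1 hc.2] at hp
    rcases eq_or_ne r p with hrp | hrp
    · rw [hrp, Equiv.swap_apply_left] at hp
      rcases hp' : p with ⟨a, b⟩ | a
      · simp [r, hp'] at hrp
      · rcases hq' : q with ⟨c, d⟩ | c
        · simp [hq'] at hp
        · have hac : a = c := Fin.ext (by omega)
          have : x (.inl (i, false)) = x (.inl (i, true)) := by
            show p = q
            rw [hp', hq', hac]
          simpa using x.injective this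
    · rw [Equiv.swap_apply_of_ne_of_ne hrp hne] at hp
      have : x (.inl (i, false)) = x (.inl (i, true)) := (pairFlip m e).injective hp
      simpa using x.injective this
  rcases key j hj with h1 | h1 <;> rcases key k hk with h2 | h2 <;>
    exact hjk (by simpa using congrArg (Sum.elim Prod.fst (fun _ => i)) (x.injective (h1.symm.trans h2)))

/-- Induction step. -/
theorem eq_one_of_pairs {m e : ℕ} (he : e ≤ 1)
    (ih : ∀ (T : Sylow 2 (Perm (Fin m))) (y : Perm (Fin m)), Odd (orderOf y) →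
      y ∈ Subgroup.normalizer ((T : Subgroup (Perm (Fin m))) : Set (Perm (Fin m))) → y = 1)
    (T : Sylow 2 (Perm (PairPts m e))) (hT : (T : Subgroup (Perm (PairPts m e))) ≤ pairCent m e)
    (K : Subgroup (Perm (PairPts m e))) (hK : K ≤ T)
    (hproj : ∀ g ∈ (T : Subgroup (Perm (PairPts m e))), ∀ hg : g ∈ pairCent m e,
      ∃ k, k ∈ K ∧ ∃ hk : k ∈ pairCent m e, pairHom m e ⟨k, hk⟩ = pairHom m e ⟨g, hg⟩)
    (x : Perm (PairPts m e)) (hxC : x ∈ pairCent m e) (hodd : Odd (orderOf x))
    (hx : ∀ k ∈ K, x * k * x⁻¹ ∈ K) : x = 1 := by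
  haveI := Fact.mk Nat.prime_two
  let TC : Sylow 2 (pairCent m e) := T.subtype hT
  let TB : Sylow 2 (Perm (Fin m)) := TC.mapSurjective (pairHom_surjective m e)
  have hy : pairHom m e ⟨x, hxC⟩ ∈ Subgroup.normalizer ((TB : Subgroup (Perm (Fin m))) : Set (Perm (Fin m))) := by
    rw [Subgroup.mem_normalizer_iff]
    have h1 : ∀ z ∈ (TB : Subgroup (Perm (Fin m))),
        pairHom m e ⟨x, hxC⟩ * z * (pairHom m e ⟨x, hxC⟩)⁻¹ ∈ (TB : Subgroup (Perm (Fin m))) := by
      rintro _ ⟨⟨g, hgC⟩, hg, rfl⟩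
      obtain ⟨k, hkK, hkC, hk⟩ := hproj g hg hgC
      rw [← hk, ← map_inv, ← map_mul, ← map_mul]
      exact ⟨_, hK (hx k hkK), rfl⟩
    intro z
    refine ⟨h1 z, fun hz => ?_⟩
    have h2 : ((TB : Subgroup (Perm (Fin m))).map (MulAut.conj (pairHom m e ⟨x, hxC⟩)).toMonoidHom) =
        (TB : Subgroup (Perm (Fin m))) :=
      Subgroup.eq_of_le_of_card_ge (by rintro _ ⟨w, hw, rfl⟩; exact h1 w hw)
        (by rw [Subgroup.card_map_of_injective (MulAut.conj _).injective])
    rw [← h2] at hz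
    obtain ⟨w, hw, he'⟩ := hz
    simp only [MulEquiv.coe_toMonoidHom, MulAut.conj_apply] at he'
    rwa [← mul_left_cancel (mul_right_cancel he')]
  have hodd' : Odd (orderOf (pairHom m e ⟨x, hxC⟩)) := by
    refine hodd.of_dvd_nat ?_
    refine dvd_trans (orderOf_map_dvd _ _) ?_
    rw [Subgroup.orderOf_mk]
  have h3 := pairHom_ker_sq he ⟨x, hxC⟩ (MonoidHom.mem_ker.mpr (ih TB _ hodd' hy))
  have h4 : x ^ 2 = 1 := congrArg Subtype.val h3
  exact orderOf_eq_one_iff.mp (Nat.Coprime.eq_one_of_dvd hodd.coprime_two_right (orderOf_dvd_of_pow_eq_one h4))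

theorem pairSwap_mem_sylow {m e : ℕ} (he : e ≤ 1) (T : Sylow 2 (Perm (PairPts m e)))
    (hT : (T : Subgroup (Perm (PairPts m e))) ≤ pairCent m e) (i : Fin m) : pairSwap m e i ∈ (T : Subgroup (Perm (PairPts m e))) := by
  haveI := Fact.mk Nat.prime_two
  exact (pairHom_ker_isPGroup (m := m) he).le_sylow_of_normal (T.subtype hT) (pairSwap_mem_ker i)

theorem odd_normalizer_perm_eq_one : ∀ (n : ℕ) (α : Type) [Fintype α] [DecidableEq α],
    Fintype.card α = n → ∀ (T : Sylow 2 (Perm α)) (x : Perm α), Odd (orderOf x) →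
      x ∈ Subgroup.normalizer ((T : Subgroup (Perm α)) : Set (Perm α)) → x = 1 := by
  intro n
  induction n using Nat.strong_induction_on with
  | _ n ih =>
  intro α _ _ hn T x hodd hx
  haveI := Fact.mk Nat.prime_two
  rcases Nat.lt_or_ge n 2 with h2 | h2
  · haveI : Subsingleton α := Fintype.card_le_one_iff_subsingleton.mp (by omega)
    exact Subsingleton.elim _ _
  obtain ⟨m, e, he, rfl⟩ : ∃ m e, e ≤ 1 ∧ n = 2 * m + e := ⟨n / 2, n % 2, by omega, by omega⟩
  let f : α ≃ PairPts m e := Fintype.equivOfCardEq (by simp [hn]; ring)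
  let F : Perm α ≃* Perm (PairPts m e) := f.permCongrHom
  obtain ⟨T₀, hT₀⟩ := exists_sylow_le_pairCent (m := m) he
  let T' : Sylow 2 (Perm (PairPts m e)) := T.mapSurjective (f := F.toMonoidHom) F.surjective
  obtain ⟨g, hg⟩ := MulAction.exists_smul_eq (Perm (PairPts m e)) T' T₀
  set y := g * F x * g⁻¹ with hy
  have hyn : ∀ k ∈ (T₀ : Subgroup (Perm (PairPts m e))), y * k * y⁻¹ ∈ (T₀ : Subgroup (Perm (PairPts m e))) := by
    rw [← hg]
    rintro _ ⟨_, ⟨a, ha, rfl⟩, rfl⟩
    refine ⟨_, ⟨_, (Subgroup.mem_normalizer_iff.mp hx a).mp ha, rfl⟩, ?_⟩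
    simp [hy, MulAut.smul_def, mul_assoc]
  have hyodd : Odd (orderOf y) := by
    rw [hy, ← MulAut.conj_apply, MulEquiv.orderOf_eq, MulEquiv.orderOf_eq]; exact hodd
  have hyC : y ∈ pairCent m e := pairs_preserved_of_swaps he y fun i =>
    hT₀ (hyn _ (pairSwap_mem_sylow he T₀ hT₀ i))
  have hy1 : y = 1 := eq_one_of_pairs he (fun S z hz hz' => ih m (by omega) (Fin m) (Fintype.card_fin m) S z hz hz')
    T₀ hT₀ T₀ le_rfl (fun g hg hgC => ⟨g, hg, hgC, rfl⟩) y hyC hyodd hyn
  rw [hy, conj_eq_one_iff] at hy1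
  exact F.injective (by rw [hy1, map_one])

theorem odd_normalizer_alt_eq_one (α : Type) [Fintype α] [DecidableEq α] (hα : 6 ≤ Fintype.card α)
    (S : Sylow 2 (alternatingGroup α)) (x : alternatingGroup α) (hodd : Odd (orderOf x))
    (hx : x ∈ Subgroup.normalizer ((S : Subgroup (alternatingGroup α)) : Set (alternatingGroup α))) : x = 1 := by
  haveI := Fact.mk Nat.prime_two
  obtain ⟨m, e, he, hcard⟩ : ∃ m e, e ≤ 1 ∧ Fintype.card α = 2 * m + e :=
    ⟨Fintype.card α / 2, Fintype.card α % 2, by omega, by omega⟩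
  let f : α ≃ PairPts m e := Fintype.equivOfCardEq (by simp [hcard]; ring)
  let F : Perm α ≃* Perm (PairPts m e) := f.permCongrHom
  obtain ⟨T, hT⟩ := (S.2.map (alternatingGroup α).subtype).exists_le_sylow
  have hST : ∀ a : alternatingGroup α, a ∈ (S : Subgroup (alternatingGroup α)) ↔ (a : Perm α) ∈ (T : Subgroup (Perm α)) := by
    intro a
    refine ⟨fun ha => hT ⟨a, ha, rfl⟩, fun ha => ?_⟩
    have hle : (S : Subgroup (alternatingGroup α)) ≤ (T : Subgroup (Perm α)).comap (alternatingGroup α).subtype :=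
      fun b hb => hT ⟨b, hb, rfl⟩
    rw [← S.3 (T.2.comap_of_injective _ (alternatingGroup α).subtype_injective) hle]
    exact ha
  obtain ⟨T₀, hT₀⟩ := exists_sylow_le_pairCent (m := m) he
  let T' : Sylow 2 (Perm (PairPts m e)) := T.mapSurjective (f := F.toMonoidHom) F.surjective
  obtain ⟨g, hg⟩ := MulAction.exists_smul_eq (Perm (PairPts m e)) T' T₀
  set y := g * F x * g⁻¹ with hy
  set K := (T₀ : Subgroup (Perm (PairPts m e))) ⊓ alternatingGroup (PairPts m e) with hK
  have hyn : ∀ k ∈ K, y * k * y⁻¹ ∈ K := by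
    rintro k ⟨hk, hksign⟩
    refine ⟨?_, ?_⟩
    · rw [← hg] at hk ⊢
      obtain ⟨_, ⟨a, ha, rfl⟩, rfl⟩ := hk
      have hsa : Perm.sign a = 1 := by
        have h1 := Perm.mem_alternatingGroup.mp hksign
        simp [MulAut.smul_def, F, Perm.sign_permCongr] at h1
        rwa [mul_comm, ← mul_assoc, Int.units_mul_self, one_mul] at h1
      have := (Subgroup.mem_normalizer_iff.mp hx ⟨a, hsa⟩).mp ((hST ⟨a, hsa⟩).mpr ha)
      refine ⟨_, ⟨_, (hST _).mp this, rfl⟩, ?_⟩
      simp [hy, MulAut.smul_def, mul_assoc]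
    · show y * k * y⁻¹ ∈ alternatingGroup (PairPts m e)
      exact (inferInstance : (alternatingGroup (PairPts m e)).Normal).conj_mem k hksign y
  have hyodd : Odd (orderOf y) := by
    rw [hy, ← MulAut.conj_apply, MulEquiv.orderOf_eq, MulEquiv.orderOf_eq, Subgroup.orderOf_coe]; exact hodd
  have hsw : ∀ i, Perm.sign (pairSwap m e i) = -1 := fun i => Perm.sign_swap (by simp)
  have hyC : y ∈ pairCent m e := pairs_preserved_of_doubleSwaps he (by omega) y fun i j hij =>
    hT₀ (hyn _ ⟨mul_mem (pairSwap_mem_sylow he T₀ hT₀ i) (pairSwap_mem_sylow he T₀ hT₀ j),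
      Perm.mem_alternatingGroup.mpr (by rw [map_mul, hsw, hsw]; rfl)⟩).1
  have i0 : Fin m := ⟨0, by omega⟩
  have hproj : ∀ g ∈ (T₀ : Subgroup (Perm (PairPts m e))), ∀ hg : g ∈ pairCent m e,
      ∃ k, k ∈ K ∧ ∃ hk : k ∈ pairCent m e, pairHom m e ⟨k, hk⟩ = pairHom m e ⟨g, hg⟩ := by
    intro g hg hgC
    rcases Int.units_eq_one_or (Perm.sign g) with hs | hs
    · exact ⟨g, ⟨hg, hs⟩, hgC, rfl⟩
    · refine ⟨g * pairSwap m e i0, ⟨mul_mem hg (pairSwap_mem_sylow he T₀ hT₀ i0),
        Perm.mem_alternatingGroup.mpr (by rw [map_mul, hsw, hs]; rfl)⟩, mul_mem hgC (pairSwap_mem i0), ?_⟩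
      rw [show (⟨g * pairSwap m e i0, mul_mem hgC (pairSwap_mem i0)⟩ : pairCent m e) =
        ⟨g, hgC⟩ * ⟨pairSwap m e i0, pairSwap_mem i0⟩ from rfl, map_mul,
        MonoidHom.mem_ker.mp (pairSwap_mem_ker i0), mul_one]
  have hy1 : y = 1 := eq_one_of_pairs he
    (fun S z hz hz' => odd_normalizer_perm_eq_one m (Fin m) (Fintype.card_fin m) S z hz hz')
    T₀ hT₀ K inf_le_left hproj y hyC hyodd hyn
  rw [hy, conj_eq_one_iff] at hy1
  exact Subtype.ext (F.injective (by rw [hy1]; simp))

/-- A Sylow `2`-subgroup is self-normalizing once odd elements of the normalizer are trivial. -/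
theorem sylow_two_eq_normalizer {G : Type*} [Group G] [Finite G] (S : Sylow 2 G)
    (h : ∀ x ∈ Subgroup.normalizer ((S : Subgroup G) : Set G), Odd (orderOf x) → x = 1) :
    Subgroup.normalizer ((S : Subgroup G) : Set G) = (S : Subgroup G) := by
  haveI := Fact.mk Nat.prime_two
  set N := Subgroup.normalizer ((S : Subgroup G) : Set G)
  refine S.3 ?_ Subgroup.le_normalizer
  refine IsPGroup.iff_orderOf.mpr fun ⟨g, hg⟩ => ?_
  rw [Subgroup.orderOf_mk]
  obtain ⟨k, r, hr, he⟩ := Nat.exists_eq_two_pow_mul_odd (orderOf_pos g).ne'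
  refine ⟨k, ?_⟩
  have hdvd : 2 ^ k ∣ orderOf g := ⟨r, he⟩
  have hg2 : orderOf (g ^ 2 ^ k) = r := by
    rw [orderOf_pow_of_dvd (by positivity) hdvd, he, Nat.mul_div_cancel_left _ (by positivity)]
  have h1 := h _ (pow_mem hg _) (hg2 ▸ hr)
  have hr1 : r = 1 := by rw [← hg2, h1, orderOf_one]
  rw [he, hr1, mul_one]

/-- Sylow 2-subgroups of symmetric groups are self-normalizing. -/
theorem normalizer_sylow_two_perm (α : Type) [Fintype α] [DecidableEq α] (T : Sylow 2 (Perm α)) :
    Subgroup.normalizer ((T : Subgroup (Perm α)) : Set (Perm α)) = (T : Subgroup (Perm α)) :=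
  sylow_two_eq_normalizer T fun x hx hodd => odd_normalizer_perm_eq_one _ α rfl T x hodd hx

/-- Sylow 2-subgroups of alternating groups of degree at least `6` are self-normalizing. -/
theorem normalizer_sylow_two_alt (α : Type) [Fintype α] [DecidableEq α] (hα : 6 ≤ Fintype.card α)
    (S : Sylow 2 (alternatingGroup α)) :
    Subgroup.normalizer ((S : Subgroup (alternatingGroup α)) : Set (alternatingGroup α)) =
      (S : Subgroup (alternatingGroup α)) :=
  sylow_two_eq_normalizer S fun x hx hodd => odd_normalizer_alt_eq_one α hα S x hodd hx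

end Cfsg.Agent.KnownA
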