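import Cfsg.Agent.KnownA.AltFive
import Cfsg.Agent.KnownA.SylowTwoNormalizer
import Cfsg.Agent.KnownA.RealFusion
import Cfsg.Prelude.Def_HallClasses

set_option autoImplicit false

/-!
# Pronormality of odd-index subgroups and Sylow automizers in alternating groups
-/

namespace Cfsg.Agent.KnownA

open Equiv

/-- A subgroup containing a Sylow subgroup is pronormal if it is that subgroup or contains its normalizer. -/
theorem pronormal_of_sylow {G : Type*} [Group G] [Finite G] {p : ℕ} [Fact p.Prime] (H : Subgroup G)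
    (P : Sylow p G) (hPH : (P : Subgroup G) ≤ H)
    (h : (P : Subgroup G) = H ∨ Subgroup.normalizer ((P : Subgroup G) : Set G) ≤ H) : Cfsg.IsPronormal H := by
  intro g
  set K := H ⊔ H.map (MulAut.conj g).toMonoidHom with hK
  have hgP : ((g • P : Sylow p G) : Subgroup G) ≤ K :=
    le_trans (Subgroup.map_mono hPH) le_sup_right
  obtain ⟨⟨x, hxK⟩, hx⟩ := MulAction.exists_smul_eq K (P.subtype (le_trans hPH le_sup_left)) ((g • P).subtype hgP)
  simp_rw [Sylow.smul_subtype, Subgroup.smul_def] at hx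
  have hx' : x • P = g • P := Sylow.subtype_injective hx
  refine ⟨x, hxK, ?_⟩
  rcases h with h | h
  · rw [← h]
    exact congrArg Sylow.toSubgroup hx'.symm
  · have hn : x⁻¹ * g ∈ H := h (Sylow.smul_eq_iff_mem_normalizer.mp (by rw [mul_smul, ← hx', inv_smul_smul]))
    obtain ⟨n, hn', rfl⟩ : ∃ n ∈ H, g = x * n := ⟨_, hn, by group⟩
    rw [map_mul]
    ext y
    constructor
    · rintro ⟨z, hz, rfl⟩
      exact ⟨n * z * n⁻¹, mul_mem (mul_mem hn' hz) (inv_mem hn'), by simp [mul_assoc]⟩
    · rintro ⟨z, hz, rfl⟩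
      exact ⟨n⁻¹ * z * n, mul_mem (mul_mem (inv_mem hn') hz) hn', by simp [mul_assoc]⟩

theorem alt_odd_index_pronormal (n : ℕ) (hn : 5 ≤ n)
    (H : Subgroup (alternatingGroup (Fin n))) (hH : Odd H.index) : Cfsg.IsPronormal H := by
  haveI := Fact.mk Nat.prime_two
  obtain ⟨R⟩ : Nonempty (Sylow 2 H) := inferInstance
  obtain ⟨P, hP⟩ := (R.2.map H.subtype).exists_le_sylow
  have hPH : (P : Subgroup (alternatingGroup (Fin n))) ≤ H := by
    suffices (R : Subgroup H).map H.subtype = P by rw [← this]; exact Subgroup.map_subtype_le _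
    refine Subgroup.eq_of_le_of_card_ge hP ?_
    rw [Subgroup.card_map_of_injective H.subtype_injective, Sylow.card_eq_multiplicity P, Sylow.card_eq_multiplicity R,
      ← H.index_mul_card, Nat.factorization_mul hH.pos.ne' Nat.card_pos.ne', Finsupp.add_apply,
      Nat.factorization_eq_zero_of_not_dvd (fun h => (Nat.not_even_iff_odd.mpr hH) (even_iff_two_dvd.mpr h)), zero_add]
  refine pronormal_of_sylow H P hPH ?_
  rcases eq_or_ne (P : Subgroup (alternatingGroup (Fin n))) H with h | h
  · exact Or.inl h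
  · right
    rcases Nat.lt_or_ge n 6 with h6 | h6
    · obtain rfl : n = 5 := by omega
      exact normalizer_le_of_sylow_lt_five P H hPH h
    · rw [normalizer_sylow_two_alt (Fin n) (by simpa using h6) P]; exact hPH

theorem alt_five_index (P : Sylow 2 (alternatingGroup (Fin 5))) :
    ((Subgroup.centralizer ((P : Subgroup (alternatingGroup (Fin 5))) : Set (alternatingGroup (Fin 5)))).subgroupOf
      (Subgroup.normalizer ((P : Subgroup (alternatingGroup (Fin 5))) : Set (alternatingGroup (Fin 5))))).index = 3 ∧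
    IsKleinFour (P : Subgroup (alternatingGroup (Fin 5))) := by
  haveI := Fact.mk Nat.prime_two
  obtain ⟨h4, hC⟩ := centralizer_sylow_five P
  set N := Subgroup.normalizer ((P : Subgroup (alternatingGroup (Fin 5))) : Set (alternatingGroup (Fin 5)))
  set C := Subgroup.centralizer ((P : Subgroup (alternatingGroup (Fin 5))) : Set (alternatingGroup (Fin 5)))
  haveI : IsMulCommutative (P : Subgroup (alternatingGroup (Fin 5))) :=
    IsPGroup.isMulCommutative_of_card_eq_prime_sq (p := 2) (by rw [h4]; rfl)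
  have hCP : C = (P : Subgroup (alternatingGroup (Fin 5))) := le_antisymm hC (Subgroup.le_centralizer _)
  have hcC : Nat.card C = 4 := by rw [hCP, h4]
  have hle : C ≤ N := hCP ▸ Subgroup.le_normalizer
  constructor
  · have h := (C.subgroupOf N).index_mul_card
    rw [Nat.card_congr (Subgroup.subgroupOfEquivOfLe hle).toEquiv, hcC, card_normalizer_five P] at h
    omega
  · refine ⟨h4, ?_⟩
    have hsq : ∀ x : alternatingGroup (Fin 5), x ∈ fiveList → x ^ 2 = 1 := by decide +kernel
    refine Nat.dvd_antisymm ?_ ?_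
    · refine Monoid.exponent_dvd_of_forall_pow_eq_one fun ⟨x, hx⟩ => ?_
      obtain ⟨g, hg⟩ := exists_conj_fiveV P
      have := hsq _ ((hg x).mp hx)
      rw [← MulAut.conj_apply, ← map_pow, map_eq_one_iff _ (MulAut.conj g).injective] at this
      exact Subtype.ext this
    · haveI : Nontrivial (P : Subgroup (alternatingGroup (Fin 5))) := Finite.one_lt_card_iff_nontrivial.mp (by omega)
      obtain ⟨x, hx⟩ := exists_ne (1 : (P : Subgroup (alternatingGroup (Fin 5))))
      obtain ⟨k, hk⟩ := (IsPGroup.iff_orderOf.mp P.2) x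
      rcases Nat.eq_zero_or_pos k with rfl | hk0
      · exact absurd (orderOf_eq_one_iff.mp (by simpa using hk)) hx
      · exact dvd_trans (dvd_pow_self 2 hk0.ne') (hk ▸ Monoid.order_dvd_exponent x)

theorem alt_abelian_sylow_two (n : ℕ) (hn : 6 ≤ n) (P : Sylow 2 (alternatingGroup (Fin n)))
    (hP : IsMulCommutative (P : Subgroup (alternatingGroup (Fin n)))) : False := by
  haveI := Fact.mk Nat.prime_two
  let ι : alternatingGroup (Fin 6) →* alternatingGroup (Fin n) :=
    { toFun := fun σ => ⟨(σ : Perm (Fin 6)).viaFintypeEmbedding (Fin.castLEEmb hn), by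
        rw [Perm.mem_alternatingGroup, Perm.viaFintypeEmbedding_sign]; exact σ.2⟩
      map_one' := Subtype.ext (Perm.ext fun x => by
        show Perm.viaFintypeEmbedding 1 (Fin.castLEEmb hn) x = x
        by_cases hx : x ∈ Set.range (Fin.castLEEmb hn)
        · obtain ⟨a, rfl⟩ := hx; rw [Perm.viaFintypeEmbedding_apply_image, Perm.one_apply]
        · rw [Perm.viaFintypeEmbedding_apply_notMem_range _ _ hx])
      map_mul' := fun σ τ => Subtype.ext (Perm.ext fun x => by
        show Perm.viaFintypeEmbedding ((σ : Perm (Fin 6)) * (τ : Perm (Fin 6))) (Fin.castLEEmb hn) x =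
          Perm.viaFintypeEmbedding (σ : Perm (Fin 6)) (Fin.castLEEmb hn)
            (Perm.viaFintypeEmbedding (τ : Perm (Fin 6)) (Fin.castLEEmb hn) x)
        by_cases hx : x ∈ Set.range (Fin.castLEEmb hn)
        · obtain ⟨a, rfl⟩ := hx; simp only [Perm.viaFintypeEmbedding_apply_image, Perm.mul_apply]
        · simp only [Perm.viaFintypeEmbedding_apply_notMem_range _ _ hx]) }
  have hι : Function.Injective ι := fun σ τ h => Subtype.ext (Perm.ext fun x => by
    have := congrArg (fun g : alternatingGroup (Fin n) => (g : Perm (Fin n)) (Fin.castLEEmb hn x)) h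
    simp only [ι, MonoidHom.coe_mk, OneHom.coe_mk, Perm.viaFintypeEmbedding_apply_image] at this
    exact (Fin.castLEEmb hn).injective this)
  let a : alternatingGroup (Fin 6) :=
    ⟨Equiv.swap 0 1 * Equiv.swap 1 2 * Equiv.swap 2 3 * Equiv.swap 4 5, Perm.mem_alternatingGroup.mpr (by decide)⟩
  let b : alternatingGroup (Fin 6) := ⟨Equiv.swap 1 3 * Equiv.swap 4 5, Perm.mem_alternatingGroup.mpr (by decide)⟩
  have ha : a ^ 4 = 1 := by decide +kernel
  have hb : b ^ 2 = 1 := by decide +kernel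
  have hba : b * a * b⁻¹ = a⁻¹ := by decide +kernel
  have hne : a * b ≠ b * a := by decide +kernel
  have h1 : IsPGroup 2 (Subgroup.zpowers a) := IsPGroup.iff_orderOf.mpr fun ⟨x, hx⟩ => by
    rw [Subgroup.orderOf_mk]
    obtain ⟨k, -, hk⟩ := (Nat.dvd_prime_pow Nat.prime_two).mp
      ((orderOf_dvd_of_mem_zpowers hx).trans (orderOf_dvd_of_pow_eq_one (n := 2 ^ 2) ha))
    exact ⟨k, hk⟩
  have h2 : IsPGroup 2 (Subgroup.zpowers b) := IsPGroup.iff_orderOf.mpr fun ⟨x, hx⟩ => by
    rw [Subgroup.orderOf_mk]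
    obtain ⟨k, -, hk⟩ := (Nat.dvd_prime_pow Nat.prime_two).mp
      ((orderOf_dvd_of_mem_zpowers hx).trans (orderOf_dvd_of_pow_eq_one (n := 2 ^ 1) hb))
    exact ⟨k, hk⟩
  have hnorm : Subgroup.zpowers b ≤ Subgroup.normalizer (Subgroup.zpowers a : Set (alternatingGroup (Fin 6))) := by
    rw [Subgroup.zpowers_le, Subgroup.mem_normalizer_iff]
    have hb' : b⁻¹ = b := by rw [inv_eq_iff_mul_eq_one, ← pow_two, hb]
    have key : ∀ y ∈ Subgroup.zpowers a, b * y * b⁻¹ ∈ Subgroup.zpowers a := by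
      rintro _ ⟨k, rfl⟩
      rw [← conj_zpow, hba]; exact zpow_mem (inv_mem (Subgroup.mem_zpowers a)) k
    intro y
    refine ⟨key y, fun hy => ?_⟩
    have := key _ hy
    rw [hb'] at this
    have e : b * (b * y * b) * b = y := by
      have hbb : b * b = 1 := by rw [← pow_two]; exact hb
      rw [← mul_assoc, ← mul_assoc, hbb, one_mul, mul_assoc, hbb, mul_one]
    rwa [e] at this
  have hp : IsPGroup 2 ((Subgroup.zpowers b ⊔ Subgroup.zpowers a).map ι) :=
    (IsPGroup.to_sup_of_normal_right' h2 h1 hnorm).map ι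
  obtain ⟨Q, hQ⟩ := hp.exists_le_sylow
  obtain ⟨g, hg⟩ := MulAction.exists_smul_eq (alternatingGroup (Fin n)) Q P
  have hmem : ∀ y ∈ Subgroup.zpowers b ⊔ Subgroup.zpowers a, g * ι y * g⁻¹ ∈ (P : Subgroup (alternatingGroup (Fin n))) := by
    intro y hy; rw [← hg]; exact ⟨ι y, hQ ⟨y, hy, rfl⟩, rfl⟩
  have hcomm := hP.is_comm.comm ⟨_, hmem a (Subgroup.mem_sup_right (Subgroup.mem_zpowers a))⟩
    ⟨_, hmem b (Subgroup.mem_sup_left (Subgroup.mem_zpowers b))⟩
  have h3 : g * ι a * g⁻¹ * (g * ι b * g⁻¹) = g * ι b * g⁻¹ * (g * ι a * g⁻¹) := congrArg Subtype.val hcomm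
  have h4 : ι (a * b) = ι (b * a) := by
    rw [map_mul, map_mul]
    have h5 : g * (ι a * ι b) * g⁻¹ = g * (ι b * ι a) * g⁻¹ := by simpa [mul_assoc] using h3
    exact mul_left_cancel (mul_right_cancel h5)
  exact hne (hι h4)

theorem alt_abelian_sylow_automizer (n : ℕ) (hn : 5 ≤ n) {p : ℕ} [Fact p.Prime]
    (P : Sylow p (alternatingGroup (Fin n))) (hP : IsMulCommutative (P : Subgroup (alternatingGroup (Fin n))))
    (hex : ¬ (n = 5 ∧ p = 2)) :
    2 ∣ ((Subgroup.centralizer ((P : Subgroup (alternatingGroup (Fin n))) : Set (alternatingGroup (Fin n)))).subgroupOf (Subgroup.normalizer ((P : Subgroup (alternatingGroup (Fin n))) : Set (alternatingGroup (Fin n))))).index ∨ IsCyclic (P : Subgroup (alternatingGroup (Fin n))) := by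
  have hp : p.Prime := Fact.out
  haveI := hP
  by_cases hp2 : p = 2
  · subst hp2
    exact (alt_abelian_sylow_two n (by omega) P hP).elim
  rcases Nat.lt_or_ge n (p + 2) with hnp | hnp
  · right
    haveI : Nontrivial (Fin n) := Fin.nontrivial_iff_two_le.mpr (by omega)
    have hc : Nat.card (P : Subgroup (alternatingGroup (Fin n))) ∣ p := by
      rw [Sylow.card_eq_multiplicity]
      conv_rhs => rw [← pow_one p]
      refine pow_dvd_pow p ?_
      have hcard : 2 * Nat.card (alternatingGroup (Fin n)) = n.factorial := by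
        rw [Nat.card_eq_fintype_card, two_mul_card_alternatingGroup, Fintype.card_perm, Fintype.card_fin]
      have h3 := hp.two_le
      have hlog : Nat.log p n < 2 := Nat.log_lt_of_lt_pow (by omega) (by nlinarith)
      have hfac := Nat.factorization_factorial hp hlog
      rw [← hcard, Nat.factorization_mul two_ne_zero Nat.card_pos.ne', Finsupp.add_apply] at hfac
      simp [-Nat.card_eq_fintype_card, -Perm.mem_alternatingGroup] at hfac
      have : n / p < 2 := (Nat.div_lt_iff_lt_mul hp.pos).mpr (by omega)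
      omega
    rcases (Nat.dvd_prime hp).mp hc with h1 | h1
    · haveI : Subsingleton (P : Subgroup (alternatingGroup (Fin n))) := (Nat.card_eq_one_iff_unique.mp h1).1
      infer_instance
    · exact isCyclic_of_prime_card h1
  · left
    obtain ⟨x, hx⟩ := (Equiv.Perm.exists_with_cycleType_iff (Fin n) (m := {p})).mpr
      ⟨by simp; omega, fun a ha => by simp at ha; subst ha; exact hp.two_le⟩
    have hsign : Perm.sign x = 1 := by
      rw [Perm.sign_of_cycleType, hx]
      simp [pow_succ, (hp.odd_of_ne_two hp2).neg_one_pow]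
    obtain ⟨g, hg⟩ := exists_conj_mem_sylow P ⟨x, hsign⟩ ⟨1, by rw [← Subgroup.orderOf_coe, ← Perm.lcm_cycleType]; simp [hx]⟩
    obtain ⟨σ, hσ⟩ := isConj_iff.mp (Perm.isConj_iff_cycleType_eq.mpr (Perm.cycleType_inv x).symm)
    obtain ⟨u, v, huv, hu, hv⟩ : ∃ u v : Fin n, u ≠ v ∧ x u = u ∧ x v = v := by
      have hsupp : x.support.card = p := by rw [← Perm.sum_cycleType, hx]; simp
      have h2 : 1 < (Finset.univ \ x.support).card := by
        rw [Finset.card_sdiff, Finset.inter_univ, Finset.card_univ, Fintype.card_fin, hsupp]; omega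
      obtain ⟨u, hu, v, hv, huv⟩ := Finset.one_lt_card.mp h2
      exact ⟨u, v, huv, Perm.notMem_support.mp (Finset.mem_sdiff.mp hu).2, Perm.notMem_support.mp (Finset.mem_sdiff.mp hv).2⟩
    obtain ⟨τ, hτs, hτ⟩ : ∃ τ : Perm (Fin n), Perm.sign τ = 1 ∧ τ * x * τ⁻¹ = x⁻¹ := by
      rcases Int.units_eq_one_or (Perm.sign σ) with hs | hs
      · exact ⟨σ, hs, hσ⟩
      · refine ⟨σ * Equiv.swap u v, by rw [map_mul, hs, Perm.sign_swap huv]; rfl, ?_⟩
        have : Equiv.swap u v * x * (Equiv.swap u v)⁻¹ = x := by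
          rw [mul_inv_eq_iff_eq_mul, Equiv.mul_swap_eq_swap_mul, hu, hv]
        rw [mul_inv_rev, show σ * Equiv.swap u v * x * ((Equiv.swap u v)⁻¹ * σ⁻¹) =
          σ * (Equiv.swap u v * x * (Equiv.swap u v)⁻¹) * σ⁻¹ by group, this, hσ]
    have hx1 : (⟨x, hsign⟩ : alternatingGroup (Fin n)) ≠ 1 := by
      intro h
      have : x = 1 := congrArg Subtype.val h
      rw [this, Perm.cycleType_one] at hx
      simp at hx
    refine two_dvd_automizer_of_real hp2 P _ hg (by rwa [Ne, conj_eq_one_iff]) ?_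
    have h1 : IsConj (⟨x, hsign⟩ : alternatingGroup (Fin n)) ⟨x, hsign⟩⁻¹ :=
      isConj_iff.mpr ⟨⟨τ, hτs⟩, Subtype.ext hτ⟩
    obtain ⟨c, hc⟩ := isConj_iff.mp h1
    refine isConj_iff.mpr ⟨g * c * g⁻¹, ?_⟩
    rw [show (g * ⟨x, hsign⟩ * g⁻¹)⁻¹ = g * (⟨x, hsign⟩ : alternatingGroup (Fin n))⁻¹ * g⁻¹ by group, ← hc]
    group

end Cfsg.Agent.KnownA
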