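import Mathlib

set_option autoImplicit false

/-!
# The centralizer of a fixed-point-free involution in a symmetric group, and its Sylow 2-subgroups
-/

namespace Cfsg.Agent.KnownA

open Equiv

/-- `m` pairs of points and `e` further points. -/
abbrev PairPts (m e : ℕ) : Type := (Fin m × Bool) ⊕ Fin e

/-- The involution exchanging the two points of each pair. -/
def pairFlip (m e : ℕ) : Perm (PairPts m e) :=
  Equiv.sumCongr (Equiv.prodCongr (Equiv.refl (Fin m)) ⟨not, not, Bool.not_not, Bool.not_not⟩) (Equiv.refl _)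

@[simp] theorem pairFlip_inl {m e : ℕ} (i : Fin m) (b : Bool) :
    pairFlip m e (.inl (i, b)) = .inl (i, !b) := rfl

@[simp] theorem pairFlip_inr {m e : ℕ} (k : Fin e) : pairFlip m e (.inr k) = .inr k := rfl

theorem pairFlip_flip {m e : ℕ} (x : PairPts m e) : pairFlip m e (pairFlip m e x) = x := by
  rcases x with ⟨i, b⟩ | k <;> simp

/-- The stabiliser of the pairing. -/
abbrev pairCent (m e : ℕ) : Subgroup (Perm (PairPts m e)) := Subgroup.centralizer {pairFlip m e}

theorem mem_pairCent {m e : ℕ} {g : Perm (PairPts m e)} :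
    g ∈ pairCent m e ↔ ∀ x, g (pairFlip m e x) = pairFlip m e (g x) := by
  rw [Subgroup.mem_centralizer_singleton_iff, Perm.ext_iff]
  rfl

theorem pairCent_inl {m e : ℕ} {g : Perm (PairPts m e)} (hg : g ∈ pairCent m e) (i : Fin m) (b : Bool) :
    ∃ (j : Fin m) (c : Bool), g (.inl (i, b)) = .inl (j, c) ∧ g (.inl (i, !b)) = .inl (j, !c) := by
  have h := mem_pairCent.mp hg (.inl (i, b))
  rcases hgx : g (.inl (i, b)) with ⟨j, c⟩ | k
  · exact ⟨j, c, rfl, by rw [pairFlip_inl] at h; rw [h, hgx, pairFlip_inl]⟩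
  · exfalso
    rw [hgx, pairFlip_inl, pairFlip_inr, ← hgx] at h
    simpa using g.injective h

/-- Image of the pair `i`. -/
def pairImage {m e : ℕ} (g : Perm (PairPts m e)) (i : Fin m) : Fin m :=
  Sum.elim Prod.fst (fun _ => i) (g (.inl (i, false)))

theorem pairImage_spec {m e : ℕ} {g : Perm (PairPts m e)} (hg : g ∈ pairCent m e) (i : Fin m) (b : Bool) :
    ∃ c : Bool, g (.inl (i, b)) = .inl (pairImage g i, c) := by
  obtain ⟨j, c, h1, h2⟩ := pairCent_inl hg i false
  have hj : pairImage g i = j := by simp [pairImage, h1]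
  rw [hj]
  cases b
  · exact ⟨c, h1⟩
  · exact ⟨!c, h2⟩

theorem pairImage_mul {m e : ℕ} {g h : Perm (PairPts m e)} (hg : g ∈ pairCent m e) (hh : h ∈ pairCent m e)
    (i : Fin m) : pairImage (g * h) i = pairImage g (pairImage h i) := by
  obtain ⟨c, hc⟩ := pairImage_spec hh i false
  obtain ⟨d, hd⟩ := pairImage_spec hg (pairImage h i) c
  show Sum.elim Prod.fst (fun _ => i) ((g * h) (.inl (i, false))) = _
  rw [Perm.mul_apply, hc, hd]
  rfl

/-- The action on the pairs. -/
def pairHom (m e : ℕ) : pairCent m e →* Perm (Fin m) where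
  toFun g :=
    { toFun := pairImage g.1
      invFun := pairImage (g⁻¹ : pairCent m e).1
      left_inv := fun i => by
        rw [← pairImage_mul (g⁻¹ : pairCent m e).2 g.2, ← Subgroup.coe_mul, inv_mul_cancel]; rfl
      right_inv := fun i => by
        rw [← pairImage_mul g.2 (g⁻¹ : pairCent m e).2, ← Subgroup.coe_mul, mul_inv_cancel]; rfl }
  map_one' := by ext i; rfl
  map_mul' g h := by ext i; exact congrArg Fin.val (pairImage_mul g.2 h.2 i)

theorem pairHom_surjective (m e : ℕ) : Function.Surjective (pairHom m e) := fun σ =>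
  ⟨⟨Equiv.sumCongr (Equiv.prodCongr σ (Equiv.refl Bool)) (Equiv.refl _), mem_pairCent.mpr (by
    rintro (⟨i, b⟩ | k) <;> rfl)⟩, by ext i; rfl⟩

theorem pairHom_ker_sq {m e : ℕ} (he : e ≤ 1) (g : pairCent m e) (hg : g ∈ (pairHom m e).ker) :
    g ^ 2 = 1 := by
  haveI : Subsingleton (Fin e) := by interval_cases e <;> infer_instance
  have hfix : ∀ i, pairImage g.1 i = i := fun i =>
    DFunLike.congr_fun (MonoidHom.mem_ker.mp hg) i
  refine Subtype.ext (Perm.ext fun x => ?_)
  rw [pow_two, Subgroup.coe_mul, Subgroup.coe_one, Perm.mul_apply, Perm.one_apply]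
  have hcomm := mem_pairCent.mp g.2
  rcases x with ⟨i, b⟩ | k
  · obtain ⟨c, hc⟩ := pairImage_spec g.2 i b
    rw [hfix] at hc
    by_cases hcb : c = b
    · subst hcb; rw [hc, hc]
    · have hc' : c = !b := by cases c <;> cases b <;> first | rfl | exact absurd rfl hcb
      subst hc'
      rw [hc, ← pairFlip_inl (e := e), hcomm, hc, pairFlip_inl, Bool.not_not]
  · rcases hgk : g.1 (.inr k) with ⟨i, b⟩ | k'
    · exfalso
      have := hcomm (.inr k)
      rw [pairFlip_inr, hgk, pairFlip_inl] at this
      simp at this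
    · obtain rfl := Subsingleton.elim k' k
      rw [hgk]

/-- Exchange the two points of pair `i`. -/
def pairSwap (m e : ℕ) (i : Fin m) : Perm (PairPts m e) := Equiv.swap (.inl (i, false)) (.inl (i, true))

theorem pairSwap_mem {m e : ℕ} (i : Fin m) : pairSwap m e i ∈ pairCent m e := by
  rw [mem_pairCent]
  rintro (⟨j, b⟩ | k)
  · rcases eq_or_ne j i with rfl | hji
    · cases b <;> simp [pairSwap]
    · simp [pairSwap, Equiv.swap_apply_of_ne_of_ne, hji]
  · simp [pairSwap, Equiv.swap_apply_of_ne_of_ne]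

theorem pairSwap_mem_ker {m e : ℕ} (i : Fin m) :
    (⟨pairSwap m e i, pairSwap_mem i⟩ : pairCent m e) ∈ (pairHom m e).ker := by
  refine Perm.ext fun j => ?_
  show pairImage (pairSwap m e i) j = j
  rcases eq_or_ne j i with rfl | hji
  · simp [pairImage, pairSwap]
  · simp [pairImage, pairSwap, Equiv.swap_apply_of_ne_of_ne, hji]

theorem pairHom_ker_isPGroup {m e : ℕ} (he : e ≤ 1) : IsPGroup 2 (pairHom m e).ker :=
  fun g => ⟨1, Subtype.ext (by simpa using pairHom_ker_sq he g.1 g.2)⟩

theorem pow_dvd_card_pairCent {m e : ℕ} (he : e ≤ 1) :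
    2 ^ m * Nat.card (Perm (Fin m)) ∣ Nat.card (pairCent m e) := by
  let f : (Fin m → Bool) → (pairHom m e).ker := fun s =>
    ⟨⟨Equiv.sumCongr (Equiv.prodShear (Equiv.refl (Fin m))
        (fun i => if s i then ⟨not, not, Bool.not_not, Bool.not_not⟩ else Equiv.refl Bool)) (Equiv.refl _),
      mem_pairCent.mpr (by
        rintro (⟨i, b⟩ | k)
        · by_cases hs : s i <;> simp [hs, Equiv.prodShear]
        · rfl)⟩, MonoidHom.mem_ker.mpr (Perm.ext fun i => by simp [pairHom, pairImage, Equiv.prodShear])⟩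
  have hf : Function.Injective f := by
    intro s t h
    funext i
    have h1 : (f s).1.1 (.inl (i, false)) = (f t).1.1 (.inl (i, false)) := by rw [h]
    have h2 : ∀ r : Fin m → Bool, (f r).1.1 (.inl (i, false)) = .inl (i, r i) := by
      intro r
      show Sum.inl (i, (if r i then (⟨not, not, Bool.not_not, Bool.not_not⟩ : Bool ≃ Bool) else Equiv.refl Bool) false) = _
      cases r i <;> rfl
    rw [h2, h2] at h1
    simpa using h1
  have h1 := Nat.card_le_card_of_injective f hf
  rw [Nat.card_fun, Nat.card_eq_fintype_card, Fintype.card_bool, Nat.card_eq_fintype_card (α := Fin m),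
    Fintype.card_fin] at h1
  obtain ⟨k, hk⟩ := IsPGroup.iff_card.mp (pairHom_ker_isPGroup (m := m) he)
  rw [hk] at h1
  have hkm : m ≤ k := (Nat.pow_le_pow_iff_right (by norm_num)).mp h1
  rw [← (pairHom m e).ker.index_mul_card, Subgroup.index_ker,
    MonoidHom.range_eq_top.mpr (pairHom_surjective m e), Subgroup.card_top, hk, mul_comm]
  exact Nat.mul_dvd_mul_left _ (pow_dvd_pow 2 hkm)

/-- A Sylow 2-subgroup of the centraliser is one of the symmetric group. -/
theorem exists_sylow_le_pairCent {m e : ℕ} (he : e ≤ 1) :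
    ∃ T : Sylow 2 (Perm (PairPts m e)), (T : Subgroup (Perm (PairPts m e))) ≤ pairCent m e := by
  haveI := Fact.mk Nat.prime_two
  obtain ⟨R⟩ : Nonempty (Sylow 2 (pairCent m e)) := inferInstance
  have hR : IsPGroup 2 ((R : Subgroup (pairCent m e)).map (pairCent m e).subtype) := R.2.map _
  obtain ⟨T, hT⟩ := hR.exists_le_sylow
  refine ⟨T, ?_⟩
  suffices (R : Subgroup (pairCent m e)).map (pairCent m e).subtype = T by
    rw [← this]; exact Subgroup.map_subtype_le _
  refine Subgroup.eq_of_le_of_card_ge hT ?_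
  rw [Subgroup.card_map_of_injective (pairCent m e).subtype_injective, Sylow.card_eq_multiplicity T,
    Sylow.card_eq_multiplicity R]
  refine Nat.pow_le_pow_right (by norm_num) ?_
  have h1 := (Nat.factorization_le_iff_dvd (Nat.mul_ne_zero (by positivity) Nat.card_pos.ne') Nat.card_pos.ne').mpr
    (pow_dvd_card_pairCent (m := m) he) 2
  rw [Nat.factorization_mul (by positivity) Nat.card_pos.ne', Finsupp.add_apply,
    Nat.prime_two.factorization_pow, Finsupp.single_eq_same, Nat.card_perm, Nat.card_fin] at h1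
  refine le_trans (le_of_eq ?_) h1
  rw [Nat.card_perm, Nat.card_eq_fintype_card (α := PairPts m e), Fintype.card_sum, Fintype.card_prod,
    Fintype.card_fin, Fintype.card_fin, Fintype.card_bool, mul_comm m 2,
    Nat.factorization_def _ Nat.prime_two, Nat.factorization_def _ Nat.prime_two,
    padicValNat_factorial_mul_add m (by omega), padicValNat_factorial_mul]
  ring

end Cfsg.Agent.KnownA
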