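import Mathlib

set_option autoImplicit false

/-!
# Actions of an odd `p`-group in which every element splits into fixed points of two generators
-/

namespace Cfsg.Agent.KnownA

variable {R : Type*} [Group R]

/-- Irreducible faithful case. -/
theorem splitFix_irreducible [Finite R] {p : ℕ} [Fact p.Prime] (hp3 : 3 ≤ p) (hR : IsPGroup p R)
    {V : Type*} [CommGroup V] [Finite V] [MulDistribMulAction R V] [FaithfulSMul R V]
    (hirr : ∀ U : Subgroup V, (∀ (r : R), ∀ x ∈ U, r • x ∈ U) → U = ⊥ ∨ U = ⊤)
    (C D : Set R) (hC : Subgroup.closure C = ⊤) (hD : Subgroup.closure D = ⊤)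
    (hsplit : ∀ c ∈ C, ∀ d ∈ D, ∀ x : V, ∃ a b : V, c • a = a ∧ d • b = b ∧ x = a * b) :
    ∀ r : R, r = 1 := by
  classical
  let fix : R → Subgroup V := fun u => (MulDistribMulAction.toMonoidHom V u).eqLocus (MonoidHom.id V)
  have mem_fix : ∀ u x, x ∈ fix u ↔ u • x = x := fun u x => Iff.rfl
  have hfree : ∀ δ ∈ Subgroup.center R, δ ≠ 1 → ∀ x : V, δ • x = x → x = 1 := by
    intro δ hδ hne x hx
    rcases hirr (fix δ) (fun r y hy => by
      rw [mem_fix] at hy ⊢
      rw [smul_smul, ← Subgroup.mem_center_iff.mp hδ r, ← smul_smul, hy]) with h | h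
    · exact Subgroup.mem_bot.mp (h ▸ (mem_fix δ x).mpr hx)
    · exact absurd (FaithfulSMul.eq_of_smul_eq_smul fun y : V => by
        rw [one_smul]; exact (mem_fix δ y).mp (h ▸ Subgroup.mem_top y)) hne
  by_contra hnt
  push Not at hnt
  haveI : Nontrivial R := let ⟨r, hr⟩ := hnt; ⟨⟨r, 1, hr⟩⟩
  have hV : ∃ x : V, x ≠ 1 := by
    by_contra h; push Not at h
    obtain ⟨r, hr⟩ := hnt
    exact hr (FaithfulSMul.eq_of_smul_eq_smul fun y : V => by rw [h y]; simp)
  have small : ∀ c ∈ C, ∀ d ∈ D, ∀ a b : ℕ, Nat.card (fix c) ≤ a → Nat.card (fix d) ≤ b →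
      Nat.card V ≤ a * b := by
    intro c hc d hd a b ha hb
    refine le_trans ?_ (Nat.mul_le_mul ha hb)
    rw [← Nat.card_prod]
    refine Nat.card_le_card_of_surjective (fun z : fix c × fix d => (z.1 : V) * z.2) fun x => ?_
    obtain ⟨u, v, hu, hv, rfl⟩ := hsplit c hc d hd x
    exact ⟨(⟨u, (mem_fix c u).mpr hu⟩, ⟨v, (mem_fix d v).mpr hv⟩), rfl⟩
  have hVcard : 1 < Nat.card V := by
    rw [Finite.one_lt_card_iff_nontrivial]; obtain ⟨x, hx⟩ := hV; exact ⟨⟨x, 1, hx⟩⟩
  by_cases hab : Subgroup.center R = ⊤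
  · have pick : ∀ S : Set R, Subgroup.closure S = ⊤ → ∃ s ∈ S, Nat.card (fix s) ≤ 1 := by
      intro S hS
      obtain ⟨s, hs, hne⟩ : ∃ s ∈ S, s ≠ 1 := by
        by_contra h; push Not at h
        have : Subgroup.closure S ≤ ⊥ := (Subgroup.closure_le _).mpr fun s hs => Subgroup.mem_bot.mpr (h s hs)
        rw [hS] at this
        obtain ⟨r, hr⟩ := hnt
        exact hr (Subgroup.mem_bot.mp (this (Subgroup.mem_top r)))
      refine ⟨s, hs, le_of_eq ?_⟩
      rw [Subgroup.card_eq_one]
      exact (Subgroup.eq_bot_iff_forall _).mpr fun x hx =>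
        hfree s (hab ▸ Subgroup.mem_top s) hne x ((mem_fix s x).mp hx)
    obtain ⟨c, hc, hc1⟩ := pick C hC
    obtain ⟨d, hd, hd1⟩ := pick D hD
    have := small c hc d hd 1 1 hc1 hd1
    omega
  · -- an element of the second centre
    haveI : Nontrivial (R ⧸ Subgroup.center R) := by
      rwa [QuotientGroup.nontrivial_iff]
    haveI : Nontrivial (Subgroup.center (R ⧸ Subgroup.center R)) := (hR.to_quotient _).center_nontrivial
    obtain ⟨⟨zbar, hzc⟩, hzne⟩ := exists_ne (1 : Subgroup.center (R ⧸ Subgroup.center R))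
    obtain ⟨z, rfl⟩ := QuotientGroup.mk_surjective zbar
    have hz : z ∉ Subgroup.center R := fun h => hzne (Subtype.ext ((QuotientGroup.eq_one_iff z).mpr h))
    have hcomm : ∀ u : R, u * z * u⁻¹ * z⁻¹ ∈ Subgroup.center R := by
      intro u
      rw [← QuotientGroup.eq_one_iff]
      simp only [QuotientGroup.mk_mul, QuotientGroup.mk_inv]
      rw [Subgroup.mem_center_iff.mp hzc u]; group
    have pick : ∀ S : Set R, Subgroup.closure S = ⊤ →
        ∃ s ∈ S, Nat.card (fix s) ^ 3 ≤ Nat.card V := by
      intro S hS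
      obtain ⟨s, hs, hne⟩ : ∃ s ∈ S, s * z ≠ z * s := by
        by_contra h; push Not at h
        apply hz
        rw [Subgroup.mem_center_iff]
        intro u
        have hle : Subgroup.closure S ≤ Subgroup.centralizer {z} :=
          (Subgroup.closure_le _).mpr fun x hx => Subgroup.mem_centralizer_singleton_iff.mpr (h x hx)
        exact Subgroup.mem_centralizer_singleton_iff.mp (hle (hS ▸ Subgroup.mem_top u))
      refine ⟨s, hs, ?_⟩
      set δ := s * z * s⁻¹ * z⁻¹ with hδdef
      have hδ : δ ∈ Subgroup.center R := hcomm s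
      have hδ1 : δ ≠ 1 := fun h => hne (mul_inv_eq_iff_eq_mul.mp (mul_inv_eq_one.mp h))
      have hδ2 : δ ^ 2 ≠ 1 := by
        intro h
        obtain ⟨k, hk⟩ := (IsPGroup.iff_orderOf.mp hR) δ
        have h2 := orderOf_dvd_of_pow_eq_one h
        rw [hk] at h2
        rcases Nat.eq_zero_or_pos k with rfl | hk0
        · exact hδ1 (orderOf_eq_one_iff.mp (by simpa using hk))
        · have := Nat.le_of_dvd (by omega) (dvd_trans (dvd_pow_self p hk0.ne') h2)
          omega
      have hsz : s * z = δ * z * s := by rw [hδdef]; group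
      have hδz : ∀ x : V, δ • (z • x) = z • δ • x := fun x => by
        rw [smul_smul, smul_smul, ← Subgroup.mem_center_iff.mp hδ z]
      have act1 : ∀ x : V, s • x = x → s • (z • x) = δ • (z • x) := by
        intro x hx
        calc s • (z • x) = (s * z) • x := smul_smul _ _ _
          _ = (δ * z * s) • x := by rw [hsz]
          _ = δ • (z • x) := by rw [mul_smul, mul_smul, hx]
      have act2 : ∀ x : V, s • x = x → s • (z • z • x) = δ • δ • (z • z • x) := by
        intro x hx
        calc s • (z • z • x) = (s * z) • (z • x) := smul_smul _ _ _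
          _ = δ • z • (s • (z • x)) := by rw [hsz, mul_smul, mul_smul]
          _ = δ • z • δ • (z • x) := by rw [act1 x hx]
          _ = δ • δ • (z • z • x) := by rw [← hδz]
      have hsδ : ∀ x : V, s • δ • x = δ • s • x := fun x => by
        rw [smul_smul, smul_smul, Subgroup.mem_center_iff.mp hδ s]
      let f : fix s × fix s × fix s →* V :=
        MonoidHom.mk' (fun t => (t.1 : V) * z • (t.2.1 : V) * z • z • (t.2.2 : V)) fun t t' => by
          simp only [Prod.fst_mul, Prod.snd_mul, Subgroup.coe_mul, smul_mul']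
          ac_rfl
      have hf : Function.Injective f := by
        rw [injective_iff_map_eq_one]
        rintro ⟨⟨a, ha⟩, ⟨b, hb⟩, ⟨e, he⟩⟩ h
        rw [mem_fix] at ha hb he
        have h0 : a * z • b * z • z • e = 1 := h
        set B := z • b
        set E := z • z • e
        have hB : s • B = δ • B := act1 b hb
        have hE : s • E = δ • δ • E := act2 e he
        have h1 : a * δ • B * δ • δ • E = 1 := by
          have := congrArg (s • ·) h0
          simpa only [smul_mul', smul_one, ha, hB, hE] using this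
        have h2 : a * δ • δ • B * δ • δ • δ • δ • E = 1 := by
          have := congrArg (s • ·) h1
          simpa only [smul_mul', smul_one, ha, hsδ, hB, hE] using this
        set y := δ • δ • E * E⁻¹ with hy
        set w := δ • B * B⁻¹ with hw
        have hwy : w * y = 1 := by
          calc w * y = (a * δ • B * δ • δ • E) * (a * B * E)⁻¹ := by
                rw [hw, hy, mul_inv, mul_inv]; 
                rw [show a * δ • B * δ • δ • E * (a⁻¹ * B⁻¹ * E⁻¹) =
                  (a * a⁻¹) * ((δ • B * B⁻¹) * (δ • δ • E * E⁻¹)) by ac_rfl, mul_inv_cancel, one_mul]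
            _ = 1 := by rw [h1, h0, inv_one, one_mul]
        have hwy2 : δ • w * δ • δ • y = 1 := by
          calc δ • w * δ • δ • y = (a * δ • δ • B * δ • δ • δ • δ • E) * (a * δ • B * δ • δ • E)⁻¹ := by
                rw [hw, hy, mul_inv, mul_inv, smul_mul', smul_mul', smul_mul', smul_inv', smul_inv', smul_inv']
                rw [show a * δ • δ • B * δ • δ • δ • δ • E * (a⁻¹ * (δ • B)⁻¹ * (δ • δ • E)⁻¹) =
                  (a * a⁻¹) * ((δ • δ • B * (δ • B)⁻¹) * (δ • δ • δ • δ • E * (δ • δ • E)⁻¹)) by ac_rfl,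
                  mul_inv_cancel, one_mul]
            _ = 1 := by rw [h2, h1, inv_one, one_mul]
        have hy1 : y = 1 := by
          apply hfree δ hδ hδ1
          have hw' : w = y⁻¹ := eq_inv_of_mul_eq_one_left hwy
          rw [hw', smul_inv'] at hwy2
          have h3 : δ • δ • y = δ • y := (inv_mul_eq_one.mp hwy2).symm
          exact MulAction.injective δ h3
        have hw1 : w = 1 := by rwa [hy1, mul_one] at hwy
        have hE1 : E = 1 := by
          apply hfree (δ ^ 2) (pow_mem hδ 2) hδ2
          rw [pow_two, mul_smul]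
          exact mul_inv_eq_one.mp hy1
        have hB1 : B = 1 := hfree δ hδ hδ1 _ (mul_inv_eq_one.mp hw1)
        have hb1 : b = 1 := by
          apply MulAction.injective z
          show z • b = z • 1
          rw [smul_one]; exact hB1
        have he1 : e = 1 := by
          apply MulAction.injective z
          show z • e = z • 1
          apply MulAction.injective z
          show z • z • e = z • z • 1
          rw [smul_one, smul_one]; exact hE1
        have ha1 : a = 1 := by rwa [hB1, hE1, mul_one, mul_one] at h0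
        subst ha1 hb1 he1
        rfl
      calc Nat.card (fix s) ^ 3 = Nat.card (fix s × fix s × fix s) := by
            rw [Nat.card_prod, Nat.card_prod]; ring
        _ ≤ Nat.card V := Nat.card_le_card_of_injective f hf
    obtain ⟨c, hc, hc3⟩ := pick C hC
    obtain ⟨d, hd, hd3⟩ := pick D hD
    have h1 := small c hc d hd _ _ le_rfl le_rfl
    have h2 : Nat.card V ^ 3 ≤ Nat.card V ^ 2 :=
      calc Nat.card V ^ 3 ≤ (Nat.card (fix c) * Nat.card (fix d)) ^ 3 := Nat.pow_le_pow_left h1 3
        _ = Nat.card (fix c) ^ 3 * Nat.card (fix d) ^ 3 := mul_pow _ _ _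
        _ ≤ Nat.card V * Nat.card V := Nat.mul_le_mul hc3 hd3
        _ = Nat.card V ^ 2 := (pow_two _).symm
    have := (Nat.pow_le_pow_iff_right hVcard).mp h2
    omega

/-- A subgroup of the invariant `W` stays invariant. -/
def Invariant {P W : Type*} [Group P] [Group W] (φ : P →* MulAut W) (U : Subgroup W) : Prop :=
  ∀ u : P, ∀ x ∈ U, φ u x ∈ U

/-- Restriction of an action to an invariant subgroup. -/
def restrictAct {P W : Type*} [Group P] [Group W] (φ : P →* MulAut W) (U : Subgroup W)
    (hU : Invariant φ U) : P →* MulAut U where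
  toFun u :=
    { toFun := fun x => ⟨φ u x, hU u x x.2⟩
      invFun := fun x => ⟨φ u⁻¹ x, hU u⁻¹ x x.2⟩
      left_inv := fun x => Subtype.ext (by simp)
      right_inv := fun x => Subtype.ext (by simp)
      map_mul' := fun x y => Subtype.ext (by simp) }
  map_one' := by ext x; simp
  map_mul' u v := by ext x; simp

/-- The action on the quotient by an invariant normal subgroup. -/
def quotientAct {P W : Type*} [Group P] [Group W] (φ : P →* MulAut W) (M : Subgroup W) [M.Normal]
    (hM : Invariant φ M) : P →* MulAut (W ⧸ M) where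
  toFun u := QuotientGroup.congr M M (φ u) (by
    refine le_antisymm ?_ fun x hx => ⟨φ u⁻¹ x, hM u⁻¹ x hx, by simp⟩
    rintro _ ⟨x, hx, rfl⟩; exact hM u x hx)
  map_one' := by
    ext x; obtain ⟨y, rfl⟩ := QuotientGroup.mk_surjective x; simp
  map_mul' u v := by
    ext x; obtain ⟨y, rfl⟩ := QuotientGroup.mk_surjective x; simp

/-- The splitting hypothesis. -/
def SplitHyp {P W : Type*} [Group P] [Group W] (φ : P →* MulAut W) (C D : Set P) : Prop :=
  ∀ U : Subgroup W, Invariant φ U → ∀ c ∈ C, ∀ d ∈ D, ∀ x ∈ U,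
    ∃ a ∈ U, ∃ b ∈ U, φ c a = a ∧ φ d b = b ∧ x = a * b

theorem splitFix_qgroup {P : Type*} [Group P] [Finite P] {p : ℕ} [Fact p.Prime] (hp3 : 3 ≤ p)
    (hP : IsPGroup p P) (C D : Set P) (hC : Subgroup.closure C = ⊤) (hD : Subgroup.closure D = ⊤)
    {q : ℕ} [Fact q.Prime] (hpq : p ≠ q) :
    ∀ (n : ℕ) {W : Type*} [Group W] [Finite W] (φ : P →* MulAut W), Nat.card W = n →
      IsPGroup q W → SplitHyp φ C D → ∀ (u : P) (x : W), φ u x = x := by
  intro n
  induction n using Nat.strong_induction_on with
  | _ n ih =>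
  intro W _ _ φ hn hW hsplit
  by_cases hex : ∃ M : Subgroup W, M.Normal ∧ Invariant φ M ∧ M ≠ ⊥ ∧ M ≠ ⊤
  · obtain ⟨M, hMn, hM, hbot, htop⟩ := hex
    have h1 : ∀ (u : P) (x : W), x ∈ M → φ u x = x := by
      intro u x hx
      have hlt : Nat.card M < n := by
        rw [← hn]
        exact lt_of_le_of_ne (Subgroup.card_le_card_group M) fun h => htop (Subgroup.eq_top_of_card_eq M h)
      have := ih _ hlt (restrictAct φ M hM) rfl (hW.to_subgroup M) (fun U hU c hc d hd y hy => by
        have hU' : Invariant φ (U.map M.subtype) := by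
          rintro v _ ⟨z, hz, rfl⟩; exact ⟨_, hU v z hz, rfl⟩
        obtain ⟨a, ⟨a', ha', rfl⟩, b, ⟨b', hb', rfl⟩, e1, e2, e3⟩ :=
          hsplit _ hU' c hc d hd _ ⟨y, hy, rfl⟩
        exact ⟨a', ha', b', hb', Subtype.ext e1, Subtype.ext e2, Subtype.ext e3⟩) u ⟨x, hx⟩
      exact congrArg Subtype.val this
    have h2 : ∀ (u : P) (x : W), (φ u x) * x⁻¹ ∈ M := by
      intro u x
      have hlt : Nat.card (W ⧸ M) < n := by
        rw [← hn, ← M.index_mul_card, Subgroup.index_eq_card]
        exact lt_mul_of_one_lt_right Nat.card_pos ((Subgroup.one_lt_card_iff_ne_bot M).mpr hbot)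
      have := ih _ hlt (quotientAct φ M hM) rfl (hW.to_quotient M) (fun U hU c hc d hd y hy => by
        have hU' : Invariant φ (U.comap (QuotientGroup.mk' M)) := fun v z hz => hU v _ hz
        obtain ⟨z, rfl⟩ := QuotientGroup.mk_surjective y
        obtain ⟨a, ha, b, hb, e1, e2, e3⟩ := hsplit _ hU' c hc d hd z hy
        exact ⟨a, ha, b, hb, congrArg QuotientGroup.mk e1, congrArg QuotientGroup.mk e2,
          congrArg QuotientGroup.mk e3⟩) u (x : W ⧸ M)
      rw [← QuotientGroup.eq_one_iff, QuotientGroup.mk_mul, QuotientGroup.mk_inv, mul_inv_eq_one]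
      exact this
    intro u x
    set y := φ u x * x⁻¹ with hy
    have hyx : φ u x = y * x := by rw [hy, inv_mul_cancel_right]
    have hiter : ∀ k : ℕ, φ (u ^ k) x = y ^ k * x := by
      intro k
      induction k with
      | zero => simp
      | succ k ih =>
        rw [pow_succ', map_mul, MulAut.mul_apply, ih, map_mul, map_pow, h1 u y (h2 u x), hyx,
          ← mul_assoc, ← pow_succ]
    obtain ⟨k, hk⟩ := hP u
    have hy1 : y ^ p ^ k = 1 := by
      have := hiter (p ^ k)
      rw [hk, map_one, MulAut.one_apply] at this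
      exact mul_eq_right.mp this.symm
    obtain ⟨l, hl⟩ := hW y
    have : y = 1 := by
      have hg := Nat.Coprime.pow k l ((Nat.coprime_primes (Fact.out) (Fact.out)).mpr hpq)
      exact orderOf_eq_one_iff.mp (Nat.eq_one_of_dvd_coprimes hg (orderOf_dvd_of_pow_eq_one hy1)
        (orderOf_dvd_of_pow_eq_one hl))
    rw [hyx, this, one_mul]
  · push Not at hex
    rcases subsingleton_or_nontrivial W with hs | hnt
    · intro u x; exact Subsingleton.elim _ _
    haveI := hW.center_nontrivial
    have hcen : Subgroup.center W = ⊤ := by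
      refine hex _ inferInstance (fun u x hx => ?_) (Subgroup.nontrivial_iff_ne_bot _ |>.mp inferInstance)
      rw [Subgroup.mem_center_iff] at hx ⊢
      intro y
      obtain ⟨y', rfl⟩ := (φ u).surjective y
      rw [← map_mul, ← map_mul, hx y']
    letI : CommGroup W := { (inferInstance : Group W) with
      mul_comm := fun a b => (Subgroup.mem_center_iff.mp (hcen ▸ Subgroup.mem_top b : b ∈ Subgroup.center W) a) }
    let ψ := φ.rangeRestrict
    haveI : FaithfulSMul φ.range W := ⟨fun {a b} h => Subtype.ext (MulEquiv.ext h)⟩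
    have hψ : Function.Surjective ψ := φ.rangeRestrict_surjective
    have gen : ∀ S : Set P, Subgroup.closure S = ⊤ → Subgroup.closure (ψ '' S) = ⊤ := by
      intro S hS
      rw [← MonoidHom.map_closure, hS, Subgroup.map_top_of_surjective ψ hψ]
    have hall := splitFix_irreducible (R := φ.range) hp3 (hP.of_surjective ψ hψ) (V := W)
      (fun U hU => by
        by_cases hb : U = ⊥
        · exact Or.inl hb
        · refine Or.inr (hex U (inferInstance) (fun u x hx => ?_) hb)
          exact hU (ψ u) x hx)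
      (ψ '' C) (ψ '' D) (gen C hC) (gen D hD) (by
        rintro _ ⟨c, hc, rfl⟩ _ ⟨d, hd, rfl⟩ x
        obtain ⟨a, -, b, -, e1, e2, e3⟩ := hsplit ⊤ (fun _ _ _ => trivial) c hc d hd x trivial
        exact ⟨a, b, e1, e2, e3⟩)
    intro u x
    have := congrArg (fun r : φ.range => (r : MulAut W) x) (hall (ψ u))
    simpa [ψ] using this

end Cfsg.Agent.KnownA
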