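import Cfsg.Agent.Suzuki.SzToriCount
import Cfsg.Prelude.Def_Transfer

/-!
Subgroups of the Suzuki groups: two generators, the Sylow 2-normalisers, real 2-elements, elementary
abelian TI subgroups, and the partition into Sylow 2-subgroups and cyclic Hall subgroups.
-/

set_option autoImplicit false

namespace Cfsg.Agent.KnownA.SzSubgroups

open Cfsg.Agent.Suzuki
open scoped Pointwise

variable {F : Type*} [Field F] {m : ℕ} (h : Ctx F m)
include h

theorem exists_root {μ : F} (hμ : μ ≠ 0) : ∃ k : Fˣ, (k : F) * th m (k : F) = μ := by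
  have := h.finite
  let f : Fˣ → Fˣ := fun k => Units.mk0 ((k : F) * th m (k : F))
    (mul_ne_zero k.ne_zero fun e => k.ne_zero (h.th_eq_zero.1 e))
  have hinj : Function.Injective f := by
    intro x y e
    have e' : (x : F) * th m (x : F) = (y : F) * th m (y : F) := congrArg Units.val e
    have h1 : ((x : F) / y) * th m ((x : F) / y) = 1 := by
      rw [div_eq_mul_inv, th_mul, th_inv]
      have : th m (y : F) ≠ 0 := fun e => y.ne_zero (h.th_eq_zero.1 e)
      have := y.ne_zero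
      field_simp
      exact e'
    exact Units.ext ((div_eq_one_iff_eq y.ne_zero).1 (h.mul_th_eq_one h1))
  obtain ⟨k, hk⟩ := Finite.injective_iff_surjective.1 hinj (Units.mk0 μ hμ)
  exact ⟨k, congrArg Units.val hk⟩

/-- Two generators. -/
theorem two_generated :
    ∃ a b : ↥(Cfsg.Sz F m), Subgroup.closure ({a, b} : Set ↥(Cfsg.Sz F m)) = ⊤ := by
  have := h.finite
  obtain ⟨k0, hk0⟩ := IsCyclic.exists_generator (α := Fˣ)
  refine ⟨hEl h k0, wEl h * uEl h 1 0, ?_⟩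
  set M := Subgroup.closure ({hEl h k0, wEl h * uEl h 1 0} : Set ↥(Cfsg.Sz F m))
  let φ : Fˣ →* ↥(Cfsg.Sz F m) := MonoidHom.mk' (hEl h) (hEl_mul h)
  have hH : ∀ k : Fˣ, hEl h k ∈ M := by
    intro k
    have : k0 ∈ M.comap φ := Subgroup.subset_closure (Set.mem_insert _ _)
    exact (Subgroup.zpowers_le.2 this) (hk0 k)
  have hwu : wEl h * uEl h 1 0 ∈ M := Subgroup.subset_closure (by simp)
  obtain ⟨t, ht0, ht1⟩ := h.exists_ne_zero_one
  set k : Fˣ := (Units.mk0 t ht0)⁻¹ with hk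
  have hkw : hEl h k * wEl h = wEl h * (hEl h k)⁻¹ := by
    rw [← wEl_conj, ← mul_assoc, ← mul_assoc, wEl_sq, one_mul]
  have hz : (wEl h * uEl h 1 0)⁻¹ * (hEl h k * (wEl h * uEl h 1 0) * (hEl h k)⁻¹) * (hEl h k * hEl h k) ∈ M :=
    mul_mem (mul_mem (inv_mem hwu) (mul_mem (mul_mem (hH _) hwu) (inv_mem (hH _)))) (mul_mem (hH _) (hH _))
  have e : (wEl h * uEl h 1 0)⁻¹ * (hEl h k * (wEl h * uEl h 1 0) * (hEl h k)⁻¹) * (hEl h k * hEl h k) =
      (uEl h 1 0)⁻¹ * (hEl h k⁻¹ * uEl h 1 0 * (hEl h k⁻¹)⁻¹) := by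
    rw [← mul_assoc (hEl h k) (wEl h), hkw, ← hEl_inv h k, inv_inv]
    group
  rw [e, hEl_conj, uEl_inv, uEl_mul, hk, inv_inv] at hz
  simp only [Units.val_mk0, mul_one, mul_zero, th_one, zero_add] at hz
  set c := (1 : F) + t with hc
  have hc0 : c ≠ 0 := fun e => ht1 (by rw [← h.neg_eq (1 : F)]; linear_combination e)
  have hsq := mul_mem hz hz
  rw [uEl_sq] at hsq
  have h0b : ∀ b : F, uEl h 0 b ∈ M := by
    intro b
    by_cases hb : b = 0
    · rw [hb, uEl_zero]; exact one_mem _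
    have hd : th m c * c ≠ 0 := mul_ne_zero (fun e => hc0 (h.th_eq_zero.1 e)) hc0
    obtain ⟨l, hl⟩ := exists_root h (div_ne_zero hb hd)
    have := mul_mem (mul_mem (hH l) hsq) (inv_mem (hH l))
    rwa [hEl_conj, mul_zero, hl, div_mul_cancel₀ _ hd] at this
  have hU : ∀ a b : F, uEl h a b ∈ M := by
    intro a b
    by_cases ha : a = 0
    · rw [ha]; exact h0b b
    let l : Fˣ := Units.mk0 (a / c) (div_ne_zero ha hc0)
    have h1 := mul_mem (mul_mem (hH l) hz) (inv_mem (hH l))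
    rw [hEl_conj, Units.val_mk0, div_mul_cancel₀ _ hc0] at h1
    have h2 := mul_mem h1 (h0b (b - a / c * th m (a / c) * (1 + t)))
    rw [uEl_mul, add_zero, mul_zero, add_zero] at h2
    convert h2 using 2
    ring
  have hw : wEl h ∈ M := by simpa using mul_mem hwu (inv_mem (hU 1 0))
  rw [eq_top_iff]
  intro g _
  rcases element_cases h g with ⟨a, b, k, rfl⟩ | ⟨a, b, c, d, k, rfl⟩
  · exact mul_mem (hU _ _) (hH _)
  · exact mul_mem (mul_mem (mul_mem (hU _ _) hw) (hU _ _)) (hH _)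

/-- A Sylow 2-subgroup is a conjugate of the unipotent subgroup. -/
theorem sylow_point (P : Sylow 2 ↥(Cfsg.Sz F m)) :
    ∃ t : ↥(Cfsg.Sz F m), ∀ x, x ∈ (P : Subgroup ↥(Cfsg.Sz F m)) ↔ t⁻¹ * x * t ∈ uGrp h := by
  have := finite_sz h
  obtain ⟨t, rfl⟩ := MulAction.exists_smul_eq ↥(Cfsg.Sz F m) (uSylow h) P
  refine ⟨t, fun x => ?_⟩
  rw [Sylow.coe_subgroup_smul, uSylow_coe, Subgroup.mem_pointwise_smul_iff_inv_smul_mem]
  simp [MulAut.smul_def, MulAut.conj_inv_apply]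

theorem normalizer_sylow {P : Sylow 2 ↥(Cfsg.Sz F m)} {t : ↥(Cfsg.Sz F m)}
    (ht : ∀ x, x ∈ (P : Subgroup ↥(Cfsg.Sz F m)) ↔ t⁻¹ * x * t ∈ uGrp h) :
    Subgroup.normalizer ((P : Subgroup ↥(Cfsg.Sz F m)) : Set ↥(Cfsg.Sz F m)) =
      MulAction.stabilizer ↥(Cfsg.Sz F m) (t • inf' F m) := by
  ext x
  have key : x ∈ Subgroup.normalizer ((P : Subgroup ↥(Cfsg.Sz F m)) : Set ↥(Cfsg.Sz F m)) ↔
      t⁻¹ * x * t ∈ Subgroup.normalizer (uGrp h : Set ↥(Cfsg.Sz F m)) := by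
    simp only [Subgroup.mem_normalizer_iff, ht]
    constructor
    · intro hx y
      have := hx (t * y * t⁻¹)
      simpa [mul_assoc] using this
    · intro hx y
      have := hx (t⁻¹ * y * t)
      simpa [mul_assoc] using this
  rw [key, normalizer_uGrp, MulAction.mem_stabilizer_iff, MulAction.mem_stabilizer_iff, mul_smul,
    mul_smul, inv_smul_eq_iff]

theorem nontrivial_ovoid : Nontrivial (Cfsg.suzukiOvoid F m) :=
  ⟨inf' F m, pt m 0 0, (pt_ne_inf _ _).symm⟩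

/-- The normaliser of a Sylow 2-subgroup is the only maximal subgroup containing it. -/
theorem sylow_maximal (P : Sylow 2 ↥(Cfsg.Sz F m)) :
    IsCoatom (Subgroup.normalizer ((P : Subgroup ↥(Cfsg.Sz F m)) : Set ↥(Cfsg.Sz F m))) ∧
    ∀ M : Subgroup ↥(Cfsg.Sz F m), IsCoatom M → (P : Subgroup ↥(Cfsg.Sz F m)) ≤ M →
      M = Subgroup.normalizer ((P : Subgroup ↥(Cfsg.Sz F m)) : Set ↥(Cfsg.Sz F m)) := by
  have := finite_sz h
  have := nontrivial_ovoid h
  have := pretransitive h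
  have := two_transitive h
  have : MulAction.IsPreprimitive (Cfsg.Sz F m) (Cfsg.suzukiOvoid F m) :=
    MulAction.isPreprimitive_of_is_two_pretransitive ‹_›
  obtain ⟨t, ht⟩ := sylow_point h P
  have hN := normalizer_sylow h ht
  have hcoat := MulAction.IsPreprimitive.isCoatom_stabilizer_of_isPreprimitive
    (G := ↥(Cfsg.Sz F m)) (t • inf' F m)
  rw [← hN] at hcoat
  refine ⟨hcoat, fun M hM hPM => ?_⟩
  by_contra hne
  set p := t • inf' F m with hp
  obtain ⟨x, hx, hxp⟩ : ∃ x ∈ M, x • p ≠ p := by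
    by_contra hc
    push Not at hc
    have hle : M ≤ Subgroup.normalizer ((P : Subgroup ↥(Cfsg.Sz F m)) : Set ↥(Cfsg.Sz F m)) := by
      rw [hN]; exact fun y hy => hc y hy
    exact hcoat.1 (hM.2 _ (lt_of_le_of_ne hle hne))
  have htrans : ∀ q, ∃ g ∈ M, g • p = q := by
    intro q
    by_cases hq : q = p
    · exact ⟨1, one_mem _, by rw [one_smul, hq]⟩
    rcases pt_cases (t⁻¹ • q) with e | ⟨a, b, e⟩
    · exact absurd (by rw [hp, ← e, smul_inv_smul]) hq
    rcases pt_cases (t⁻¹ • (x • p)) with e' | ⟨c, d, e'⟩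
    · exact absurd (by rw [← smul_inv_smul t (x • p), e', ← hp]) hxp
    have hu : t * (uEl h a b * (uEl h c d)⁻¹) * t⁻¹ ∈ M := by
      refine hPM ((ht _).2 ?_)
      have := mul_mem (uEl_mem h a b) (inv_mem (uEl_mem h c d))
      convert this using 1
      group
    refine ⟨_, mul_mem hu hx, ?_⟩
    rw [mul_smul, mul_smul, mul_smul, mul_smul, e',
      inv_smul_eq_iff.2 (uEl_smul_zero h c d).symm, uEl_smul_zero, ← e, smul_inv_smul]
  have hle : Subgroup.normalClosure ((P : Subgroup ↥(Cfsg.Sz F m)) : Set ↥(Cfsg.Sz F m)) ≤ M := by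
    refine (Subgroup.closure_le _).2 fun y hy => ?_
    obtain ⟨a, ha, hay⟩ := Group.mem_conjugatesOfSet_iff.1 hy
    obtain ⟨z, rfl⟩ := isConj_iff.1 hay
    obtain ⟨g, hg, hgz⟩ := htrans (z • p)
    have hn : g⁻¹ * z ∈ Subgroup.normalizer ((P : Subgroup ↥(Cfsg.Sz F m)) : Set ↥(Cfsg.Sz F m)) := by
      rw [hN, MulAction.mem_stabilizer_iff, mul_smul, inv_smul_eq_iff, hgz]
    have := mul_mem (mul_mem hg (hPM ((Subgroup.mem_normalizer_iff.1 hn a).1 ha))) (inv_mem hg)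
    have e : z * a * z⁻¹ = g * (g⁻¹ * z * a * (g⁻¹ * z)⁻¹) * g⁻¹ := by group
    rw [e]
    exact this
  have := simple h
  rcases (Subgroup.normalClosure_normal
    (s := ((P : Subgroup ↥(Cfsg.Sz F m)) : Set ↥(Cfsg.Sz F m)))).eq_bot_or_eq_top with e | e
  · have h1 : t * uEl h 1 0 * t⁻¹ ∈ (P : Subgroup ↥(Cfsg.Sz F m)) :=
      (ht _).2 (by simpa [mul_assoc] using uEl_mem h 1 0)
    have h2 := Subgroup.subset_normalClosure h1
    rw [e, SetLike.mem_coe, Subgroup.mem_bot, conj_eq_one_iff, ← uEl_zero h] at h2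
    exact one_ne_zero (uEl_inj h h2).1
  · exact hM.1 (top_le_iff.1 (e ▸ hle))

/-- A 2-element is real only if it is an involution. -/
theorem isConj_inv_iff (P : Sylow 2 ↥(Cfsg.Sz F m)) {g : ↥(Cfsg.Sz F m)}
    (hg : g ∈ (P : Subgroup ↥(Cfsg.Sz F m))) (h1 : g ≠ 1) : IsConj g g⁻¹ ↔ orderOf g = 2 := by
  constructor
  · intro hc
    obtain ⟨t, ht⟩ := sylow_point h P
    obtain ⟨a, b, hab⟩ := (ht g).1 hg
    rw [orderOf_eq_prime_iff]
    refine ⟨?_, h1⟩
    have hge : g = t * uEl h a b * t⁻¹ := by rw [← hab]; group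
    by_cases ha : a = 0
    · subst ha
      rw [sq, hge, show t * uEl h 0 b * t⁻¹ * (t * uEl h 0 b * t⁻¹) = t * (uEl h 0 b * uEl h 0 b) * t⁻¹
        by group, uEl_sq, mul_zero, uEl_zero]
      group
    exfalso
    obtain ⟨x, hx⟩ := isConj_iff.1 hc
    set y := t⁻¹ * x * t with hy
    have hy' : y * uEl h a b * y⁻¹ = (uEl h a b)⁻¹ := by
      rw [← hab, hy]
      calc t⁻¹ * x * t * (t⁻¹ * g * t) * (t⁻¹ * x * t)⁻¹ = t⁻¹ * (x * g * x⁻¹) * t := by group
        _ = _ := by rw [hx]; group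
    have hne : ¬(a = 0 ∧ b = 0) := fun e => ha e.1
    have hfix : y • inf' F m = inf' F m := by
      have e1 : uEl h a b • (y⁻¹ • inf' F m) = y⁻¹ • inf' F m := by
        have e2 : (y * uEl h a b * y⁻¹) • inf' F m = inf' F m := by
          rw [hy', uEl_inv, uEl_smul_inf]
        rw [mul_smul, mul_smul] at e2
        exact eq_inv_smul_iff.2 e2
      rcases pt_cases (y⁻¹ • inf' F m) with e | ⟨p, q, e⟩
      · exact (inv_smul_eq_iff.1 e).symm
      · rw [e, uEl_smul_pt] at e1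
        exact absurd (by linear_combination (pt_inj e1).1) ha
    obtain ⟨c, d, k, hk⟩ := fix_inf h hfix
    rw [hk, mul_inv_eq_iff_eq_mul, uEl_inv] at hy'
    have e3 : uEl h c d * hEl h k * (uEl h a b * hEl h 1) =
        uEl h a (b + th m a * a) * hEl h 1 * (uEl h c d * hEl h k) := by
      simpa [hEl_one] using hy'
    rw [uhEl_mul, uhEl_mul] at e3
    obtain ⟨e4, e5, -⟩ := uhEl_inj h e3
    simp only [Units.val_one, one_mul, th_one] at e4 e5
    have hk1 : (k : F) = 1 :=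
      mul_right_cancel₀ ha (by rw [one_mul]; linear_combination e4)
    rw [hk1, th_one] at e5
    set s := c / a with hs
    have hca : c = s * a := by rw [hs, div_mul_cancel₀ _ ha]
    rw [hca, th_mul] at e5
    have hta : th m a ≠ 0 := fun e => ha (h.th_eq_zero.1 e)
    have e6 : (th m s + s + 1) * (th m a * a) = 0 := by
      linear_combination e5 + (th m a * a + s * th m a * a) * h.two_eq_zero
    have e7 : th m s = s + 1 := by
      have := (mul_eq_zero.1 e6).resolve_right (mul_ne_zero hta ha)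
      linear_combination this - (s + 1) * h.two_eq_zero
    have e8 := congrArg (th m) e7
    rw [h.th_th, h.th_add, th_one, e7] at e8
    have e9 : th m s = s := by
      have : s * (s - 1) = 0 := by linear_combination e8 + h.two_eq_zero
      rcases mul_eq_zero.1 this with e | e
      · rw [e, th_zero]
      · rw [sub_eq_zero.1 e, th_one]
    rw [e9] at e7
    exact one_ne_zero (α := F) (by linear_combination -e7)
  · intro ho
    have e : g⁻¹ = g := inv_eq_of_mul_eq_one_right (by rw [← sq, ← ho, pow_orderOf_eq_one])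
    rw [e]

theorem central_eq {a b : F} {x : ↥(Cfsg.Sz F m)} (ha : a ≠ 0)
    (hx : x * uEl h 0 a * x⁻¹ = uEl h 0 b) :
    ∃ c d : F, ∃ k : Fˣ, x = uEl h c d * hEl h k ∧ b = (k : F) * th m (k : F) * a ∧
      ∀ e : F, x * uEl h 0 e * x⁻¹ = uEl h 0 ((k : F) * th m (k : F) * e) := by
  have hfix : x • inf' F m = inf' F m := by
    have e1 : uEl h 0 a • (x⁻¹ • inf' F m) = x⁻¹ • inf' F m := by
      have e2 : (x * uEl h 0 a * x⁻¹) • inf' F m = inf' F m := by rw [hx, uEl_smul_inf]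
      rw [mul_smul, mul_smul] at e2
      exact eq_inv_smul_iff.2 e2
    rcases pt_cases (x⁻¹ • inf' F m) with e | ⟨p, q, e⟩
    · exact (inv_smul_eq_iff.1 e).symm
    · rw [e, uEl_smul_pt] at e1
      have := (pt_inj e1).2
      simp only [th_zero, zero_mul, add_zero] at this
      exact absurd (by linear_combination this) ha
  obtain ⟨c, d, k, rfl⟩ := fix_inf h hfix
  have key : ∀ e : F, uEl h c d * hEl h k * uEl h 0 e * (uEl h c d * hEl h k)⁻¹ =
      uEl h 0 ((k : F) * th m (k : F) * e) := by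
    intro e
    have e0 := uhEl_mul h c d 0 e k 1
    simp only [hEl_one, mul_one, mul_zero, add_zero] at e0
    rw [mul_inv_eq_iff_eq_mul, e0, ← mul_assoc, uEl_mul]
    congr 2
    · rw [zero_add]
    · simp only [th_zero, zero_mul, add_zero]; ring
  refine ⟨c, d, k, rfl, ?_, key⟩
  rw [key] at hx
  exact (uEl_inj h hx).2.symm

/-- Elementary abelian TI subgroups of order `2^n` correspond to subfields. -/
theorem ti_iff (n : ℕ) (hn : 2 ≤ n) :
    (∃ E : Subgroup ↥(Cfsg.Sz F m), Cfsg.IsElementaryAbelian 2 E ∧ Nat.card ↥E = 2 ^ n ∧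
      ∀ x : ↥(Cfsg.Sz F m), E ⊓ E.map (MulAut.conj x).toMonoidHom ≠ ⊥ →
        x ∈ Subgroup.normalizer (E : Set ↥(Cfsg.Sz F m))) ↔ n ∣ 2 * m + 1 := by
  have := finite_sz h
  have := h.finite
  constructor
  · rintro ⟨E, hE, hcard, hTI⟩
    have := Fact.mk Nat.prime_two
    obtain ⟨P, hEP⟩ := (IsPGroup.of_card hcard).exists_le_sylow
    obtain ⟨t, ht⟩ := sylow_point h P
    let V : Set F := {b | t * uEl h 0 b * t⁻¹ ∈ E}
    have hV : ∀ g ∈ E, ∃ b ∈ V, g = t * uEl h 0 b * t⁻¹ := by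
      intro g hg
      obtain ⟨a, b, hab⟩ := (ht g).1 (hEP hg)
      have hge : g = t * uEl h a b * t⁻¹ := by rw [← hab]; group
      have h2 : uEl h a b * uEl h a b = 1 := by
        rw [← hab, show t⁻¹ * g * t * (t⁻¹ * g * t) = t⁻¹ * g ^ 2 * t by rw [sq]; group, hE.2 g hg]
        group
      rw [uEl_sq, ← uEl_zero h] at h2
      have ha : a = 0 := by
        rcases mul_eq_zero.1 (uEl_inj h h2).2 with e | e
        · exact h.th_eq_zero.1 e
        · exact e
      subst ha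
      exact ⟨b, by show _ ∈ E; rwa [← hge], hge⟩
    have hinj : ∀ {b c : F}, t * uEl h 0 b * t⁻¹ = t * uEl h 0 c * t⁻¹ → b = c := fun e =>
      (uEl_inj h (mul_left_cancel (mul_right_cancel e))).2
    have hVcard : Nat.card V = 2 ^ n := by
      rw [← hcard]
      refine Nat.card_eq_of_bijective (fun b : V => (⟨_, b.2⟩ : E)) ⟨?_, ?_⟩
      · intro b c e; exact Subtype.ext (hinj (Subtype.ext_iff.1 e))
      · rintro ⟨g, hg⟩
        obtain ⟨b, hb, e⟩ := hV g hg
        exact ⟨⟨b, hb⟩, Subtype.ext e.symm⟩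
    have h0 : (0 : F) ∈ V := by
      show _ ∈ E; rw [uEl_zero]; simp
    -- scalars moving one element of `V` into `V` preserve `V`
    have key : ∀ b ∈ V, ∀ c ∈ V, b ≠ 0 → c ≠ 0 → ∀ e ∈ V, c / b * e ∈ V := by
      intro b hb c hc hb0 hc0 e he
      obtain ⟨k, hk⟩ := exists_root h (div_ne_zero hc0 hb0)
      have hconj : ∀ f, t * hEl h k * t⁻¹ * (t * uEl h 0 f * t⁻¹) * (t * hEl h k * t⁻¹)⁻¹ =
          t * uEl h 0 (c / b * f) * t⁻¹ := by
        intro f
        rw [show t * hEl h k * t⁻¹ * (t * uEl h 0 f * t⁻¹) * (t * hEl h k * t⁻¹)⁻¹ =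
          t * (hEl h k * uEl h 0 f * (hEl h k)⁻¹) * t⁻¹ by group, hEl_conj, mul_zero, hk]
      have hne : E ⊓ E.map (MulAut.conj (t * hEl h k * t⁻¹)).toMonoidHom ≠ ⊥ := by
        intro e0
        have hm : t * uEl h 0 c * t⁻¹ ∈ E ⊓ E.map (MulAut.conj (t * hEl h k * t⁻¹)).toMonoidHom := by
          refine ⟨hc, ⟨t * uEl h 0 b * t⁻¹, hb, ?_⟩⟩
          rw [MulEquiv.coe_toMonoidHom, MulAut.conj_apply, hconj, div_mul_cancel₀ _ hb0]
        rw [e0, Subgroup.mem_bot, conj_eq_one_iff, ← uEl_zero h] at hm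
        exact hc0 (uEl_inj h hm).2
      have := (Subgroup.mem_normalizer_iff.1 (hTI _ hne) _).1 he
      rw [hconj] at this
      exact this
    obtain ⟨⟨v, hv⟩, hv0⟩ : ∃ v : V, (v : F) ≠ 0 := by
      by_contra hc
      push Not at hc
      have : Subsingleton V := ⟨fun a b => Subtype.ext ((hc a).trans (hc b).symm)⟩
      have h2 := (Finite.card_le_one_iff_subsingleton (α := V)).2 this
      rw [hVcard] at h2
      have := Nat.lt_two_pow_self (n := n)
      omega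
    let L : Subgroup Fˣ :=
      { carrier := {k | (k : F) * v ∈ V}
        one_mem' := by simpa using hv
        mul_mem' := fun {a b} ha hb => by
          have := key v hv _ ha hv0 (mul_ne_zero a.ne_zero hv0) _ hb
          simpa [mul_div_assoc, div_self hv0, mul_assoc] using this
        inv_mem' := fun {a} ha => by
          have := key _ ha v hv (mul_ne_zero a.ne_zero hv0) hv0 v hv
          have e : v / ((a : F) * v) * v = (a⁻¹ : Fˣ) * v := by
            rw [Units.val_inv_eq_inv_val]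
            field_simp
          rwa [e] at this }
    have hL : Nat.card L = 2 ^ n - 1 := by
      have h1 : Nat.card L = Nat.card ↥(V \ {0}) := by
        refine Nat.card_eq_of_bijective (fun k : L => ⟨((k : Fˣ) : F) * v, k.2,
          mul_ne_zero (Units.ne_zero _) hv0⟩) ⟨?_, ?_⟩
        · intro a b e
          exact Subtype.ext (Units.ext (mul_right_cancel₀ hv0 (Subtype.ext_iff.1 e)))
        · rintro ⟨b, hb, hb0⟩
          refine ⟨⟨Units.mk0 (b / v) (div_ne_zero hb0 hv0), ?_⟩, ?_⟩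
          · show _ ∈ V; simpa [div_mul_cancel₀ _ hv0] using hb
          · exact Subtype.ext (div_mul_cancel₀ _ hv0)
      rw [h1, Nat.card_coe_set_eq, Set.ncard_sdiff (Set.singleton_subset_iff.2 h0),
        ← Nat.card_coe_set_eq, hVcard, Set.ncard_singleton]
    have hd := Subgroup.card_subgroup_dvd_card L
    rw [hL, Nat.card_units, h.card] at hd
    have hg := Nat.gcd_eq_left hd
    rw [Nat.pow_sub_one_gcd_pow_sub_one] at hg
    have h1 : 1 ≤ 2 ^ Nat.gcd n (2 * m + 1) := Nat.one_le_two_pow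
    have h2 : 1 ≤ 2 ^ n := Nat.one_le_two_pow
    refine Nat.gcd_eq_left_iff_dvd.1 (Nat.pow_right_injective (le_refl 2) ?_)
    show 2 ^ Nat.gcd n (2 * m + 1) = 2 ^ n
    omega
  · intro hdvd
    have hchar := h.charP
    let K : AddSubgroup F :=
      { carrier := {x | x ^ 2 ^ n = x}
        zero_mem' := by simp
        add_mem' := fun {a b} ha hb => by
          show (a + b) ^ 2 ^ n = a + b
          rw [add_pow_char_pow, ha, hb]
        neg_mem' := fun {a} ha => by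
          show (-a) ^ 2 ^ n = -a
          rwa [h.neg_eq] }
    have hmul : ∀ {a b : F}, a ∈ K → b ∈ K → a * b ∈ K := fun {a b} ha hb => by
      show (a * b) ^ 2 ^ n = a * b
      rw [mul_pow, ha, hb]
    have hinvK : ∀ {a : F}, a ∈ K → a⁻¹ ∈ K := fun {a} ha => by
      show a⁻¹ ^ 2 ^ n = a⁻¹
      rw [inv_pow, ha]
    have hKcard : Nat.card K = 2 ^ n := by
      have hker : Nat.card (powMonoidHom (2 ^ n - 1) : Fˣ →* Fˣ).ker = 2 ^ n - 1 := by
        rw [IsCyclic.card_powMonoidHom_ker, Nat.card_units, h.card, Nat.pow_sub_one_gcd_pow_sub_one,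
          Nat.gcd_eq_right hdvd]
      have e : Nat.card ↥((K : Set F) \ {0}) = 2 ^ n - 1 := by
        rw [← hker]
        have hin : ∀ k : (powMonoidHom (2 ^ n - 1) : Fˣ →* Fˣ).ker,
            ((k : Fˣ) : F) ∈ (K : Set F) := by
          intro k
          have hk := congrArg Units.val (MonoidHom.mem_ker.1 k.2)
          simp only [powMonoidHom_apply, Units.val_pow_eq_pow_val, Units.val_one] at hk
          show ((k : Fˣ) : F) ^ 2 ^ n = _
          calc ((k : Fˣ) : F) ^ 2 ^ n = ((k : Fˣ) : F) ^ (2 ^ n - 1 + 1) :=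
                congrArg _ (Nat.sub_add_cancel Nat.one_le_two_pow).symm
            _ = _ := by rw [pow_succ, hk, one_mul]
        refine (Nat.card_eq_of_bijective (fun k : (powMonoidHom (2 ^ n - 1) : Fˣ →* Fˣ).ker =>
          (⟨((k : Fˣ) : F), hin k, Units.ne_zero _⟩ : ↥((K : Set F) \ {0}))) ⟨?_, ?_⟩).symm
        · intro a b e
          exact Subtype.ext (Units.ext (Subtype.ext_iff.1 e))
        · rintro ⟨b, hb, hb0⟩
          refine ⟨⟨Units.mk0 b hb0, ?_⟩, rfl⟩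
          rw [MonoidHom.mem_ker]
          apply Units.ext
          simp only [powMonoidHom_apply, Units.val_pow_eq_pow_val, Units.val_mk0, Units.val_one]
          refine mul_right_cancel₀ hb0 ?_
          calc b ^ (2 ^ n - 1) * b = b ^ (2 ^ n - 1 + 1) := (pow_succ b _).symm
            _ = b ^ 2 ^ n := congrArg _ (Nat.sub_add_cancel Nat.one_le_two_pow)
            _ = 1 * b := hb.trans (one_mul b).symm
      rw [Nat.card_coe_set_eq, Set.ncard_sdiff (Set.singleton_subset_iff.2 K.zero_mem),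
        Set.ncard_singleton] at e
      have h2 : 2 ≤ 2 ^ n := Nat.le_self_pow (by omega) 2
      rw [← Nat.card_coe_set_eq] at e
      simp only [SetLike.coe_sort_coe] at e
      omega
    let E : Subgroup ↥(Cfsg.Sz F m) :=
      { carrier := {g | ∃ b ∈ K, g = uEl h 0 b}
        one_mem' := ⟨0, K.zero_mem, (uEl_zero h).symm⟩
        mul_mem' := by
          rintro _ _ ⟨a, ha, rfl⟩ ⟨b, hb, rfl⟩
          exact ⟨a + b, K.add_mem ha hb, by rw [uEl_mul, th_zero, zero_mul, add_zero, add_zero]⟩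
        inv_mem' := by
          rintro _ ⟨a, ha, rfl⟩
          exact ⟨a, ha, by rw [uEl_inv, th_zero, zero_mul, add_zero]⟩ }
    refine ⟨E, ⟨⟨⟨fun x y => ?_⟩⟩, ?_⟩, ?_, ?_⟩
    · obtain ⟨_, a, -, rfl⟩ := x
      obtain ⟨_, b, -, rfl⟩ := y
      apply Subtype.ext
      show uEl h 0 a * uEl h 0 b = uEl h 0 b * uEl h 0 a
      simp [uEl_mul, add_comm]
    · rintro _ ⟨a, -, rfl⟩
      rw [sq, uEl_sq, mul_zero, uEl_zero]
    · rw [← hKcard]
      refine (Nat.card_eq_of_bijective (fun b : K => (⟨uEl h 0 (b : F), b, b.2, rfl⟩ : E)) ⟨?_, ?_⟩).symm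
      · intro a b e; exact Subtype.ext (uEl_inj h (Subtype.ext_iff.1 e)).2
      · rintro ⟨g, b, hb, rfl⟩; exact ⟨⟨b, hb⟩, rfl⟩
    · intro x hx
      obtain ⟨⟨g, hgm⟩, hg'⟩ := Subgroup.ne_bot_iff_exists_ne_one.1 hx
      have hg1 : g ≠ 1 := fun e => hg' (Subtype.ext e)
      obtain ⟨⟨b, hb, rfl⟩, ⟨g', ⟨a, ha, rfl⟩, hga⟩⟩ := hgm
      rw [MulEquiv.coe_toMonoidHom, MulAut.conj_apply] at hga
      have ha0 : a ≠ 0 := by
        rintro rfl
        rw [uEl_zero, mul_one, mul_inv_cancel] at hga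
        exact hg1 hga.symm
      obtain ⟨c, d, k, -, hbk, key⟩ := central_eq h ha0 hga
      have hk : (k : F) * th m (k : F) ∈ K := by
        have := hmul hb (hinvK ha)
        rwa [hbk, mul_assoc _ a, mul_inv_cancel₀ ha0, mul_one] at this
      rw [Subgroup.mem_normalizer_iff]
      intro y
      constructor
      · rintro ⟨e, he, rfl⟩
        exact ⟨_, hmul hk he, key e⟩
      · rintro ⟨e, he, hey⟩
        have hk0 : (k : F) * th m (k : F) ≠ 0 :=
          mul_ne_zero k.ne_zero fun e => k.ne_zero (h.th_eq_zero.1 e)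
        refine ⟨((k : F) * th m (k : F))⁻¹ * e, hmul (hinvK hk) he, ?_⟩
        have := key (((k : F) * th m (k : F))⁻¹ * e)
        rw [mul_inv_cancel_left₀ hk0, ← hey] at this
        exact (mul_left_cancel (mul_right_cancel this)).symm

/-- The members of the partition. -/
def Fam (U : Subgroup ↥(Cfsg.Sz F m)) : Prop :=
  (∃ P : Sylow 2 ↥(Cfsg.Sz F m), U = (P : Subgroup ↥(Cfsg.Sz F m))) ∨
    (IsCyclic ↥U ∧ Nat.card ↥U ∈ ({2 ^ (2 * m + 1) - 1, 2 ^ (2 * m + 1) + 2 ^ (m + 1) + 1,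
      2 ^ (2 * m + 1) - 2 ^ (m + 1) + 1} : Set ℕ))

omit h in
omit [Field F] in
theorem orders (hm : 1 ≤ m) :
    let q := 2 ^ (2 * m + 1); let kp := q + 2 ^ (m + 1) + 1; let km := q - 2 ^ (m + 1) + 1
    kp * km = q ^ 2 + 1 ∧ 5 ≤ km ∧ 5 ≤ kp ∧ km.Coprime kp ∧ (q - 1).Coprime (q ^ 2 + 1) ∧ 5 ≤ q - 1 ∧
      ¬ 2 ∣ kp ∧ ¬ 2 ∣ km ∧ ¬ 2 ∣ q - 1 := by
  intro q kp km
  have hr : (2 : ℤ) ^ (m + 1) * 2 ^ (m + 1) = 2 * 2 ^ (2 * m + 1) := by
    rw [← sq]; exact q_split hm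
  have h4 : 4 ≤ 2 ^ (m + 1) := by
    calc 4 = 2 ^ 2 := rfl
      _ ≤ _ := Nat.pow_le_pow_right (by norm_num) (by omega)
  have hrN : 2 ^ (m + 1) * 2 ^ (m + 1) = 2 * q := by exact_mod_cast hr
  have hle : 2 ^ (m + 1) * 2 ≤ q := by nlinarith
  have hq2 : 2 ∣ q := dvd_pow_self 2 (by omega)
  have hr2 : 2 ∣ 2 ^ (m + 1) := dvd_pow_self 2 (by omega)
  have hodd1 : ¬ 2 ∣ kp := by omega
  have hodd2 : ¬ 2 ∣ km := by omega
  refine ⟨?_, by omega, by omega, ?_, ?_, by omega, hodd1, hodd2, by omega⟩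
  · obtain ⟨s, hs⟩ := Nat.exists_eq_add_of_le (show 2 ^ (m + 1) ≤ q by omega)
    simp only [kp, km, hs, Nat.add_sub_cancel_left]
    rw [hs] at hrN
    nlinarith
  · refine Nat.Coprime.symm (Nat.coprime_of_dvd fun p hp hpa hpb => ?_)
    have h2 : p ∣ 2 ^ (m + 2) := by
      have := Nat.dvd_sub hpa hpb
      rwa [show kp - km = 2 ^ (m + 2) by simp only [kp, km, pow_succ]; omega] at this
    exact hodd1 ((Nat.prime_dvd_prime_iff_eq hp Nat.prime_two).1 (hp.dvd_of_dvd_pow h2) ▸ hpa)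
  · refine Nat.coprime_of_dvd fun p hp hpa hpb => ?_
    obtain ⟨a, ha⟩ : ∃ a, q = a + 1 := Nat.exists_eq_add_of_le' (by omega)
    rw [ha, Nat.add_sub_cancel] at hpa
    rw [ha, show (a + 1) ^ 2 + 1 = a * (a + 2) + 2 by ring] at hpb
    have h2 : p ∣ 2 := (Nat.dvd_add_right (hpa.mul_right (a + 2))).1 hpb
    have := (Nat.prime_dvd_prime_iff_eq hp Nat.prime_two).1 h2
    subst this
    omega

/-- A torus has one of the two exceptional orders. -/
theorem card_torus {g : ↥(Cfsg.Sz F m)} (hg : Fpf g) :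
    Nat.card (Subgroup.centralizer ({g} : Set ↥(Cfsg.Sz F m))) ∈
      ({2 ^ (2 * m + 1) + 2 ^ (m + 1) + 1, 2 ^ (2 * m + 1) - 2 ^ (m + 1) + 1} : Set ℕ) := by
  have := finite_sz h
  obtain ⟨hprod, -⟩ := orders h.one_le
  set A := Subgroup.centralizer ({g} : Set ↥(Cfsg.Sz F m))
  have hA : IsTorus A := ⟨g, hg, rfl⟩
  obtain ⟨-, hA5, hAd, -⟩ := torus_data h hA
  obtain ⟨p, hp, hpA⟩ := Nat.exists_prime_and_dvd (show Nat.card A ≠ 1 by omega)
  have := Fact.mk hp
  have hd := hpA.trans hAd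
  have hp2 : p ≠ 2 := by
    rintro rfl
    have : 2 ∣ (2 ^ (2 * m + 1)) ^ 2 := dvd_pow (dvd_pow_self 2 (by omega)) two_ne_zero
    omega
  obtain ⟨k, hk, hpk⟩ : ∃ k ∈ ({2 ^ (2 * m + 1) + 2 ^ (m + 1) + 1,
      2 ^ (2 * m + 1) - 2 ^ (m + 1) + 1} : Set ℕ), p ∣ k := by
    have h1 := hd
    rw [← hprod] at h1
    rcases hp.dvd_mul.1 h1 with h1 | h1
    · exact ⟨_, Set.mem_insert _ _, h1⟩
    · exact ⟨_, Set.mem_insert_of_mem _ rfl, h1⟩
  obtain ⟨U, -, hUc, hUC, -⟩ := exceptional_tori h k hk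
  obtain ⟨z, hz⟩ := exists_prime_orderOf_dvd_card' (G := A) p hpA
  obtain ⟨y, hy⟩ := exists_prime_orderOf_dvd_card' (G := U) p (hUc ▸ hpk)
  rw [← Subgroup.orderOf_coe] at hz hy
  obtain ⟨Pz, hPz⟩ := (IsPGroup.of_card (p := p) (n := 1)
    (G := Subgroup.zpowers z.1) (by rw [Nat.card_zpowers, hz, pow_one])).exists_le_sylow
  obtain ⟨Py, hPy⟩ := (IsPGroup.of_card (p := p) (n := 1)
    (G := Subgroup.zpowers y.1) (by rw [Nat.card_zpowers, hy, pow_one])).exists_le_sylow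
  obtain ⟨t, ht⟩ := MulAction.exists_smul_eq ↥(Cfsg.Sz F m) Pz Py
  have hzP : t * z.1 * t⁻¹ ∈ (Py : Subgroup ↥(Cfsg.Sz F m)) := by
    rw [← ht, Sylow.coe_subgroup_smul]
    exact Subgroup.smul_mem_pointwise_smul _ (MulAut.conj t) _ (hPz (Subgroup.mem_zpowers _))
  have hyP := hPy (Subgroup.mem_zpowers y.1)
  have := sylow_cyclic h hp2 Py
  have he : orderOf (⟨_, hzP⟩ : (Py : Subgroup ↥(Cfsg.Sz F m))) = orderOf (⟨_, hyP⟩ : (Py : Subgroup ↥(Cfsg.Sz F m))) := by
    refine (Subgroup.orderOf_coe _).symm.trans (Eq.trans ?_ (Subgroup.orderOf_coe _))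
    show orderOf (t * z.1 * t⁻¹) = orderOf y.1
    rw [hy, ← hz]
    exact (orderOf_injective (MulAut.conj t).toMonoidHom (MulAut.conj t).injective z.1)
  have hzz := congrArg (Subgroup.map (Py : Subgroup ↥(Cfsg.Sz F m)).subtype) (zpowers_eq_of_orderOf he)
  rw [MonoidHom.map_zpowers, MonoidHom.map_zpowers] at hzz
  simp only [Subgroup.coe_subtype] at hzz
  have hz1 : z.1 ≠ 1 := fun e => hp.ne_one (by rw [← hz, e, orderOf_one])
  have hy1 : y.1 ≠ 1 := fun e => hp.ne_one (by rw [← hy, e, orderOf_one])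
  have hCz : Subgroup.centralizer ({z.1} : Set ↥(Cfsg.Sz F m)) = A := (torus_self h hA z.2 hz1).2
  have hCy := hUC y.1 y.2 hy1
  have hcz : ∀ w : ↥(Cfsg.Sz F m), Subgroup.centralizer (Subgroup.zpowers w : Set ↥(Cfsg.Sz F m)) =
      Subgroup.centralizer ({w} : Set ↥(Cfsg.Sz F m)) := fun w => by
    rw [Subgroup.zpowers_eq_closure, Subgroup.centralizer_closure]
  have hC : Subgroup.centralizer ({t * z.1 * t⁻¹} : Set ↥(Cfsg.Sz F m)) = U := by
    rw [← hcz, hzz, hcz, hCy]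
  have hcard : Nat.card ↥(Subgroup.centralizer ({z.1} : Set ↥(Cfsg.Sz F m))) =
      Nat.card ↥(Subgroup.centralizer ({t * z.1 * t⁻¹} : Set ↥(Cfsg.Sz F m))) := by
    refine Nat.card_eq_of_bijective (fun w => ⟨t * w.1 * t⁻¹, Subgroup.mem_centralizer_singleton_iff.2 ?_⟩) ⟨?_, ?_⟩
    · rw [show t * w.1 * t⁻¹ * (t * z.1 * t⁻¹) = t * (w.1 * z.1) * t⁻¹ by group,
        Subgroup.mem_centralizer_singleton_iff.1 w.2]
      group
    · intro a b e
      exact Subtype.ext (mul_left_cancel (mul_right_cancel (Subtype.ext_iff.1 e)))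
    · rintro ⟨w, hw⟩
      refine ⟨⟨t⁻¹ * w * t, Subgroup.mem_centralizer_singleton_iff.2 ?_⟩, Subtype.ext (by group)⟩
      have e := Subgroup.mem_centralizer_singleton_iff.1 hw
      calc t⁻¹ * w * t * z.1 = t⁻¹ * (w * (t * z.1 * t⁻¹)) * t := by group
        _ = _ := by rw [e]; group
  rw [← hCz, hcard, hC, hUc]
  exact hk

/-- Conjugates of members are members. -/
theorem fam_conj {U : Subgroup ↥(Cfsg.Sz F m)} (hU : Fam U) (t : ↥(Cfsg.Sz F m)) :
    Fam (U.map (MulAut.conj t).toMonoidHom) := by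
  rcases hU with ⟨P, rfl⟩ | ⟨hc, hcard⟩
  · exact Or.inl ⟨t • P, by rw [Sylow.coe_subgroup_smul]; rfl⟩
  · have e := Subgroup.equivMapOfInjective U (MulAut.conj t).toMonoidHom (MulAut.conj t).injective
    exact Or.inr ⟨isCyclic_of_surjective e.toMonoidHom e.surjective,
      by rwa [← Nat.card_congr e.toEquiv]⟩

theorem mem_conj_map {U : Subgroup ↥(Cfsg.Sz F m)} {t g : ↥(Cfsg.Sz F m)} :
    t * g * t⁻¹ ∈ U.map (MulAut.conj t).toMonoidHom ↔ g ∈ U := by
  constructor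
  · rintro ⟨y, hy, e⟩
    rw [MulEquiv.coe_toMonoidHom, MulAut.conj_apply] at e
    rwa [← mul_left_cancel (mul_right_cancel e)]
  · intro hg; exact ⟨g, hg, rfl⟩

theorem forms {g : ↥(Cfsg.Sz F m)} (hg : g ≠ 1) :
    ∃ t : ↥(Cfsg.Sz F m), (∃ a b : F, ¬(a = 0 ∧ b = 0) ∧ t * g * t⁻¹ = uEl h a b) ∨
      (∃ k : Fˣ, k ≠ 1 ∧ t * g * t⁻¹ = hEl h k) ∨ Fpf (t * g * t⁻¹) := by
  by_cases hf : Fpf g
  · exact ⟨1, Or.inr (Or.inr (hf.conj 1))⟩
  simp only [Fpf, not_forall, not_not] at hf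
  obtain ⟨p, hp⟩ := hf
  obtain ⟨t, rfl⟩ := exists_smul_inf h p
  have h0 : (t⁻¹ * g * t⁻¹⁻¹) • inf' F m = inf' F m := by
    rw [inv_inv, mul_smul, mul_smul, hp, inv_smul_smul]
  obtain ⟨a, b, k, hk⟩ := fix_inf h h0
  by_cases hk1 : k = 1
  · subst hk1
    rw [hEl_one, mul_one] at hk
    refine ⟨t⁻¹, Or.inl ⟨a, b, fun e => hg ?_, hk⟩⟩
    rw [e.1, e.2, uEl_zero, conj_eq_one_iff] at hk
    exact hk
  · obtain ⟨x, y, e⟩ := exists_second_fix h a b hk1
    set s := (uEl h x y)⁻¹ with hs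
    have e0 : (s * t⁻¹ * g * (s * t⁻¹)⁻¹) • inf' F m = inf' F m := by
      rw [show s * t⁻¹ * g * (s * t⁻¹)⁻¹ = s * (t⁻¹ * g * t⁻¹⁻¹) * s⁻¹ by group, mul_smul, mul_smul,
        show s⁻¹ • inf' F m = inf' F m by rw [hs, inv_inv, uEl_smul_inf], h0, hs, inv_smul_eq_iff,
        uEl_smul_inf]
    have e1 : (s * t⁻¹ * g * (s * t⁻¹)⁻¹) • pt m (0 : F) 0 = pt m 0 0 := by
      rw [show s * t⁻¹ * g * (s * t⁻¹)⁻¹ = s * (t⁻¹ * g * t⁻¹⁻¹) * s⁻¹ by group, mul_smul, mul_smul,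
        show s⁻¹ • pt m (0 : F) 0 = pt m x y by rw [hs, inv_inv, uEl_smul_zero], hk, e, hs,
        inv_smul_eq_iff, uEl_smul_zero]
    obtain ⟨l, hl⟩ := fix_two h e0 e1
    refine ⟨s * t⁻¹, Or.inr (Or.inl ⟨l, fun e' => hg ?_, hl⟩)⟩
    rw [e', hEl_one, conj_eq_one_iff] at hl
    exact hl

omit h in
theorem le_centralizer_of_cyclic {G : Type*} [Group G] {U : Subgroup G} (hU : IsCyclic ↥U) {g : G}
    (hg : g ∈ U) : U ≤ Subgroup.centralizer ({g} : Set G) := fun x hx =>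
  Subgroup.mem_centralizer_singleton_iff.2 (congrArg Subtype.val
    ((IsCyclic.isMulCommutative (α := U)).is_comm.comm ⟨x, hx⟩ ⟨g, hg⟩))

theorem pow_four_of_mem (P : Sylow 2 ↥(Cfsg.Sz F m)) {g : ↥(Cfsg.Sz F m)}
    (hg : g ∈ (P : Subgroup ↥(Cfsg.Sz F m))) : g ^ 4 = 1 := by
  obtain ⟨t, ht⟩ := sylow_point h P
  obtain ⟨a, b, hab⟩ := (ht g).1 hg
  have e : g = MulAut.conj t (uEl h a b) := by rw [MulAut.conj_apply, ← hab]; group
  rw [e, ← map_pow, uEl_pow_four, map_one]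

theorem unique_of_forms {g : ↥(Cfsg.Sz F m)}
    (hg : (∃ a b : F, ¬(a = 0 ∧ b = 0) ∧ g = uEl h a b) ∨
      (∃ k : Fˣ, k ≠ 1 ∧ g = hEl h k) ∨ Fpf g) :
    ∃! U : Subgroup ↥(Cfsg.Sz F m), Fam U ∧ g ∈ U := by
  have := finite_sz h
  have := h.finite
  obtain ⟨hprod, hkm, hkp, hcop, hcop', hq1, hop, hom, hoq⟩ := orders h.one_le
  set q := 2 ^ (2 * m + 1) with hq
  set kp := q + 2 ^ (m + 1) + 1 with hkp'
  set km := q - 2 ^ (m + 1) + 1 with hkm'
  have hdp : kp ∣ q ^ 2 + 1 := hprod ▸ dvd_mul_right _ _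
  have hdm : km ∣ q ^ 2 + 1 := hprod ▸ dvd_mul_left _ _
  rcases hg with ⟨a, b, hab, rfl⟩ | ⟨k, hk, rfl⟩ | hg
  · refine ⟨uGrp h, ⟨Or.inl ⟨uSylow h, (uSylow_coe h).symm⟩, uEl_mem h a b⟩, ?_⟩
    rintro U ⟨⟨P, rfl⟩ | ⟨hc, hcard⟩, hU⟩
    · obtain ⟨t, ht⟩ := sylow_point h P
      obtain ⟨c, d, hcd⟩ := (ht _).1 hU
      have htinf : t • inf' F m = inf' F m := by
        have e1 : uEl h a b • (t • inf' F m) = t • inf' F m := by
          rw [show uEl h a b = t * uEl h c d * t⁻¹ by rw [← hcd]; group, mul_smul, mul_smul,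
            inv_smul_smul, uEl_smul_inf]
        rcases pt_cases (t • inf' F m) with e | ⟨x, y, e⟩
        · exact e
        · rw [e, uEl_smul_pt] at e1
          obtain ⟨e2, e3⟩ := pt_inj e1
          have ha : a = 0 := by linear_combination e2
          subst ha
          exact absurd ⟨rfl, by rw [th_zero, zero_mul, add_zero] at e3; linear_combination e3⟩ hab
      have htN : t ∈ Subgroup.normalizer (uGrp h : Set ↥(Cfsg.Sz F m)) := by
        rw [normalizer_uGrp]; exact htinf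
      ext x
      rw [ht]
      exact ((Subgroup.mem_normalizer_iff''.1 htN) x).symm
    · exfalso
      have hle : U ≤ uGrp h := fun x hx => by
        obtain ⟨c, d, rfl⟩ := comm_uEl h hab
          (Subgroup.mem_centralizer_singleton_iff.1 (le_centralizer_of_cyclic hc hU hx))
        exact uEl_mem h c d
      have hd := Subgroup.card_dvd_of_le hle
      rw [card_uGrp, ← pow_mul] at hd
      obtain ⟨j, -, hj⟩ := (Nat.dvd_prime_pow Nat.prime_two).1 hd
      have hodd : ¬ 2 ∣ Nat.card U ∧ 5 ≤ Nat.card U := by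
        rcases hcard with e | e | e <;> rw [e]
        exacts [⟨hoq, hq1⟩, ⟨hop, hkp⟩, ⟨hom, hkm⟩]
      rcases j with _ | j
      · rw [hj] at hodd; omega
      · exact hodd.1 (hj ▸ dvd_pow_self 2 (Nat.succ_ne_zero j))
  · let φ : Fˣ →* ↥(Cfsg.Sz F m) := MonoidHom.mk' (hEl h) (hEl_mul h)
    have hHcard : Nat.card φ.range = q - 1 := by
      rw [Nat.card_congr (MonoidHom.ofInjective (f := φ) (hEl_inj h)).symm.toEquiv, Nat.card_units,
        h.card]
    have hHc : IsCyclic φ.range :=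
      isCyclic_of_surjective φ.rangeRestrict φ.rangeRestrict_surjective
    refine ⟨φ.range, ⟨Or.inr ⟨hHc, hHcard ▸ Set.mem_insert _ _⟩, ⟨k, rfl⟩⟩, ?_⟩
    rintro U ⟨⟨P, rfl⟩ | ⟨hc, hcard⟩, hU⟩
    · exfalso
      have h4 := pow_four_of_mem h P hU
      have h1 : k ^ 4 = 1 := by
        apply hEl_inj h
        show φ (k ^ 4) = hEl h 1
        rw [map_pow, hEl_one]
        exact h4
      have h2 : k ^ (Nat.card Fˣ) = 1 := pow_card_eq_one'
      have hg := pow_gcd_eq_one.2 ⟨h1, h2⟩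
      have hg4 : Nat.Coprime (2 ^ 2) (q - 1) :=
        Nat.Coprime.pow_left _ ((Nat.prime_two.coprime_iff_not_dvd).2 hoq)
      have hg4' : Nat.gcd 4 (q - 1) = 1 := hg4
      rw [Nat.card_units, h.card, hg4', pow_one] at hg
      exact hk hg
    · have hle : U ≤ φ.range := fun x hx => by
        obtain ⟨l, rfl⟩ := comm_hEl h hk
          (Subgroup.mem_centralizer_singleton_iff.1 (le_centralizer_of_cyclic hc hU hx))
        exact ⟨l, rfl⟩
      refine Subgroup.eq_of_le_of_card_ge hle ?_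
      have hd := Subgroup.card_dvd_of_le hle
      rw [hHcard] at hd ⊢
      rcases hcard with e | e | e <;> rw [e] at hd ⊢
      · have := Nat.Coprime.eq_one_of_dvd (hcop'.coprime_dvd_right hdp).symm hd
        omega
      · have := Nat.Coprime.eq_one_of_dvd (hcop'.coprime_dvd_right hdm).symm hd
        omega
  · set A := Subgroup.centralizer ({g} : Set ↥(Cfsg.Sz F m))
    have hAcard := card_torus h hg
    refine ⟨A, ⟨Or.inr ⟨centralizer_cyclic h hg, Set.mem_insert_of_mem _ hAcard⟩,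
      Subgroup.mem_centralizer_singleton_iff.2 rfl⟩, ?_⟩
    rintro U ⟨⟨P, rfl⟩ | ⟨hc, hcard⟩, hU⟩
    · exfalso
      obtain ⟨t, ht⟩ := sylow_point h P
      obtain ⟨c, d, hcd⟩ := (ht _).1 hU
      refine hg (t • inf' F m) ?_
      rw [show g = t * uEl h c d * t⁻¹ by rw [← hcd]; group, mul_smul, mul_smul, inv_smul_smul,
        uEl_smul_inf]
    · have hle : U ≤ A := le_centralizer_of_cyclic hc hU
      refine Subgroup.eq_of_le_of_card_ge hle ?_
      have hd := Subgroup.card_dvd_of_le hle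
      rcases hAcard with e' | e' <;> rw [e'] at hd ⊢ <;> rcases hcard with e | e | e <;> rw [e] at hd ⊢
      · have := Nat.Coprime.eq_one_of_dvd (hcop'.coprime_dvd_right hdp) hd; omega
      · have := Nat.Coprime.eq_one_of_dvd hcop hd; omega
      · have := Nat.Coprime.eq_one_of_dvd (hcop'.coprime_dvd_right hdm) hd; omega
      · have := Nat.Coprime.eq_one_of_dvd hcop.symm hd; omega

/-- Every non-trivial element lies in exactly one member. -/
theorem partition {g : ↥(Cfsg.Sz F m)} (hg : g ≠ 1) :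
    ∃! U : Subgroup ↥(Cfsg.Sz F m), Fam U ∧ g ∈ U := by
  obtain ⟨t, ht⟩ := forms h hg
  obtain ⟨V, ⟨hV, hgV⟩, huniq⟩ := unique_of_forms h ht
  refine ⟨V.map (MulAut.conj t⁻¹).toMonoidHom, ⟨fam_conj h hV _, ?_⟩, ?_⟩
  · have := (mem_conj_map (t := t⁻¹) (g := t * g * t⁻¹) h).2 hgV
    simpa [mul_assoc] using this
  · rintro U ⟨hU, hgU⟩
    rw [← huniq _ ⟨fam_conj h hU t, (mem_conj_map h).2 hgU⟩, Subgroup.map_map]
    conv_lhs => rw [← Subgroup.map_id U]
    congr 1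
    ext x
    simp [mul_assoc]

end Cfsg.Agent.KnownA.SzSubgroups
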